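import Cfsg.Agent.Lib.Lie.TitsSquare.Defs

/-!
The checks of points, lines and transversals.
-/

set_option autoImplicit false
set_option maxRecDepth 100000
set_option maxHeartbeats 0

namespace CfsgLib.Lie.TitsSquare

theorem gen0_ok : allUpTo (genStepOK 0) 1755 = true := by decide +kernel

theorem gen1_ok : allUpTo (genStepOK 1) 1755 = true := by decide +kernel

theorem shape_ok : shapeChecks = true := by decide +kernel

theorem line_ok : lineChecks = true := by decide +kernel

theorem trans_ok : transChecks = true := by decide +kernel

theorem chain_ok : chainChecks = true := by decide +kernel

end CfsgLib.Lie.TitsSquare
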