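import Cfsg.Agent.Lib.Lie.TitsSquare.Defs

/-!
The checks of the products, part 0.
-/

set_option autoImplicit false
set_option maxRecDepth 100000
set_option maxHeartbeats 0

namespace CfsgLib.Lie.TitsSquare

theorem prod_ok_2 : allUpTo (fun k => prodOK (k + 2)) 20 = true := by decide +kernel

theorem prod_ok_22 : allUpTo (fun k => prodOK (k + 22)) 20 = true := by decide +kernel

theorem prod_ok_42 : allUpTo (fun k => prodOK (k + 42)) 20 = true := by decide +kernel

theorem prod_ok_62 : allUpTo (fun k => prodOK (k + 62)) 20 = true := by decide +kernel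

end CfsgLib.Lie.TitsSquare
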