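import Cfsg.Agent.Lib.Lie.TitsSquare.Defs

/-!
The checks of the Sylow subgroup for two.
-/

set_option autoImplicit false
set_option maxRecDepth 100000
set_option maxHeartbeats 0

namespace CfsgLib.Lie.TitsSquare

theorem btList_ok : btListChecks = true := by decide +kernel

theorem btNext_ok : allUpTo btNextOK 11 = true := by decide +kernel

theorem class_ok : classChecks = true := by decide +kernel

theorem commA_ok : commOK aWord commA 3 = true := by decide +kernel

theorem commB_ok : commOK bWord commB 5 = true := by decide +kernel

end CfsgLib.Lie.TitsSquare
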