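import Cfsg.Agent.Lib.Lie.TitsSquare.Defs

/-!
The checks of the witnesses and fixed-point numbers.
-/

set_option autoImplicit false
set_option maxRecDepth 100000
set_option maxHeartbeats 0

namespace CfsgLib.Lie.TitsSquare

theorem elem_ok : elementChecks = true := by decide +kernel

theorem sylow_ok : sylowChecks = true := by decide +kernel

theorem reps_ok : repWits.all repOK = true := by decide +kernel

theorem count3_ok : syl3Words.all count3OK = true := by decide +kernel

theorem count5_ok : syl5Words.all count5OK = true := by decide +kernel

end CfsgLib.Lie.TitsSquare
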