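import Mathlib.Data.Nat.Basic

/-!
Witnesses.
-/

set_option autoImplicit false
set_option maxRecDepth 100000

namespace CfsgLib.Lie.TitsSquare

/-- Words for an element and its inverse, twice. -/
abbrev Wit : Type := List ℕ × List ℕ × List ℕ × List ℕ

/-- The element of order thirteen. -/
noncomputable def xWord : List ℕ := [43, 43, 112, 103, 67, 82]

/-- An element of order three fixing the first line. -/
noncomputable def aWord : List ℕ := [35, 28, 0, 66, 103, 67, 74]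

/-- An element of order five fixing the first point. -/
noncomputable def bWord : List ℕ := [113, 75, 112]

/-- Witnesses for the representatives. -/
noncomputable def repWits : List (ℕ × Wit) := [
  (1, ([31, 29, 30], [31, 28, 30], [52, 83, 66, 66, 83], [82, 67, 67, 82, 53])),
  (2, ([41, 45, 30], [31, 44, 40], [49, 34, 0, 102, 83, 83, 74, 74], [75, 75, 82, 82, 103, 3, 35, 48])),
  (3, ([33, 30, 31], [30, 31, 32], [42, 37, 93, 83, 113, 74], [75, 112, 82, 92, 36, 43])),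
  (4, ([51, 39, 34], [35, 38, 50], [57, 49, 0, 103, 66, 82, 74], [75, 83, 67, 102, 3, 48, 56])),
  (5, ([48, 1, 33], [32, 5, 49], [26, 50, 83, 92, 75, 112], [113, 74, 93, 82, 51, 27])),
  (6, ([38, 27, 55], [54, 26, 39], [44, 0, 0, 93, 66, 75, 113, 66], [67, 112, 74, 67, 92, 3, 3, 45])),
  (7, ([32, 31, 43], [42, 30, 33], [41, 44, 1, 83, 93, 82, 66], [67, 83, 92, 82, 5, 45, 40])),
  (8, ([29, 26, 54], [55, 27, 28], [41, 36, 26, 93, 82, 75, 112], [113, 74, 83, 92, 27, 37, 40])),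
  (9, ([53, 44, 42], [43, 45, 52], [57, 26, 102, 82, 102], [103, 83, 103, 27, 56])),
  (10, ([51, 39, 29], [28, 38, 50], [55, 44, 26, 83, 93, 82, 67], [66, 83, 92, 82, 27, 45, 54])),
  (11, ([36, 37, 35], [34, 36, 37], [27, 30, 103, 75, 83, 66], [67, 82, 74, 102, 31, 26])),
  (13, ([34, 26, 53], [52, 27, 35], [33, 40, 66, 103, 83, 74], [75, 82, 102, 67, 41, 32])),
  (14, ([50, 31, 41], [40, 30, 51], [44, 40, 30, 103, 74, 67, 83], [82, 66, 75, 102, 31, 41, 45])),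
  (16, ([1, 0, 35], [34, 3, 5], [1, 36, 66, 102, 83, 67], [66, 82, 103, 67, 37, 5])),
  (17, ([48, 30, 57], [56, 31, 49], [43, 37, 82, 67, 103, 74], [75, 102, 66, 83, 36, 42])),
  (18, ([1, 54, 36], [37, 55, 5], [43, 37, 113, 74, 83, 102], [103, 82, 75, 112, 36, 42])),
  (25, ([57, 31, 45], [44, 30, 56], [51, 55, 0, 66, 83, 67, 102], [103, 66, 82, 67, 3, 54, 50])),
  (26, ([30, 44, 55], [54, 45, 31], [38, 31, 26, 92, 83, 67, 75], [74, 66, 82, 93, 27, 30, 39])),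
  (28, ([41, 56, 36], [37, 57, 40], [47, 36, 112, 93, 113], [112, 92, 113, 37, 46])),
  (36, ([35, 49, 49], [48, 48, 34], [54, 33, 34, 66, 75, 67, 112], [113, 66, 74, 67, 35, 32, 55])),
  (37, ([50, 43, 35], [34, 42, 51], [53, 50, 0, 66, 66, 102, 82], [83, 103, 67, 67, 3, 51, 52])),
  (39, ([44, 48, 38], [39, 49, 45], [41, 44, 1, 113, 74, 83, 102], [103, 82, 75, 112, 5, 45, 40])),
  (49, ([43, 47, 31], [30, 46, 42], [48, 35, 113, 103, 83, 93], [92, 82, 102, 112, 34, 49])),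
  (59, ([48, 56, 53], [52, 57, 49], [56, 93, 103, 92, 83], [82, 93, 102, 92, 57])),
  (62, ([38, 35, 52], [53, 34, 39], [50, 31, 0, 82, 66, 66, 93], [92, 67, 67, 83, 3, 30, 51])),
  (98, ([52, 40, 55], [54, 41, 53], [46, 56, 28, 113, 66, 92, 75], [74, 93, 67, 112, 29, 57, 47])),
  (99, ([29, 0, 1], [5, 3, 28], [27, 30, 66, 92, 112], [113, 93, 67, 31, 26])),
  (100, ([43, 34, 29], [28, 35, 42], [51, 51, 103, 92, 74, 102], [103, 75, 93, 102, 50, 50])),
  (111, ([37, 34, 56], [57, 35, 36], [46, 48, 82, 74, 103, 66], [67, 102, 75, 83, 49, 47])),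
  (113, ([29, 47, 0], [3, 46, 28], [40, 32, 26, 83, 93, 74, 67], [66, 75, 92, 82, 27, 33, 41])),
  (222, ([42, 44, 45], [44, 45, 43], [0, 37, 92, 66, 82, 113, 66], [67, 112, 83, 67, 93, 36, 3])),
  (290, ([51, 1, 37], [36, 5, 50], [42, 33, 26, 103, 67, 102, 93], [92, 103, 66, 102, 27, 32, 43])),
  (373, ([35, 51, 34], [35, 50, 34], [44, 32, 0, 103, 74, 113, 93, 66], [67, 92, 112, 75, 102, 3, 33, 45])),
  (660, ([30, 0, 49], [48, 3, 31], [46, 56, 28, 102, 74, 112, 82], [83, 113, 75, 103, 29, 57, 47]))]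

/-- Witnesses for the elements commuting with the element of order three. -/
noncomputable def commA : List (ℕ × List Wit) := [
  (0, [([31, 53, 28], [29, 52, 30], [48, 54, 29, 93, 67, 113, 102, 67], [66, 103, 112, 66, 92, 28, 55, 49]), ([40, 37, 26], [27, 36, 41], [31, 45, 74, 83, 112, 112, 66], [67, 113, 113, 82, 75, 44, 30])]),
  (48, [([54, 44, 27], [26, 45, 55], [55, 57, 82, 74, 102, 82], [83, 103, 75, 83, 56, 54]), ([26, 30, 56], [57, 31, 27], [36, 36, 1, 74, 113, 103, 92, 66], [67, 93, 102, 112, 75, 5, 37, 37])]),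
  (1370, [([39, 32, 45], [44, 33, 38], [1, 35, 83, 93, 74, 66], [67, 75, 92, 82, 34, 5]), ([50, 50, 56], [57, 51, 51], [41, 48, 0, 92, 82], [83, 93, 3, 49, 40])]),
  (1447, [([33, 49, 28], [29, 48, 32], [31, 56, 1, 75, 66, 102, 83], [82, 103, 67, 74, 5, 57, 30]), ([54, 1, 33], [32, 5, 55], [49, 32, 29, 66, 112, 92, 74], [75, 93, 113, 67, 28, 33, 48])])]

/-- Witnesses for the elements commuting with the element of order five. -/
noncomputable def commB : List (ℕ × List Wit) := [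
  (0, [([51, 46, 57], [56, 47, 50], [34, 36, 1, 93, 74, 113, 74], [75, 112, 75, 92, 5, 37, 35]), ([52, 41, 53], [52, 40, 53], [41, 46, 1, 66, 103, 112, 67], [66, 113, 102, 67, 5, 47, 40]), ([35, 47, 42], [43, 46, 34], [32, 35, 0, 82, 102, 82, 113], [112, 83, 103, 83, 3, 34, 33]), ([30, 49, 28], [29, 48, 31], [53, 32, 30, 74, 74, 112, 83, 66], [67, 82, 113, 75, 75, 31, 33, 52])]),
  (11, [([29, 42, 29], [28, 43, 28], [50, 32, 74, 92, 92, 67], [66, 93, 93, 75, 33, 51]), ([56, 32, 52], [53, 33, 57], [44, 38, 1, 82, 112, 82, 67], [66, 83, 113, 83, 5, 39, 45]), ([50, 52, 56], [57, 53, 51], [37, 29, 27, 66, 93, 74, 113], [112, 75, 92, 67, 26, 28, 36]), ([43, 49, 42], [43, 48, 42], [27, 30, 92, 103, 74, 93], [92, 75, 102, 93, 31, 26])])]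

/-- A Sylow subgroup for 3. -/
noncomputable def syl3Words : List (List ℕ) := [
  [],
  [46, 55, 28, 113, 67, 112, 75, 66],
  [53, 53, 102, 82, 103, 75],
  [27, 56, 113, 93, 74, 66],
  [56, 39, 75, 83, 67, 83],
  [37, 33, 28, 113, 93, 113, 74, 66],
  [44, 33, 74, 112, 83, 103],
  [1, 34, 92, 75, 92, 82],
  [52, 32, 1, 74, 112, 83, 93, 66],
  [47, 30, 30, 92, 103, 74, 74],
  [56, 33, 1, 66, 103, 103, 75, 66],
  [52, 47, 75, 67, 113, 83],
  [41, 56, 113, 67, 102, 93],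
  [42, 31, 113, 82, 74, 74, 67],
  [47, 49, 0, 92, 103, 75, 103],
  [43, 36, 0, 93, 66, 75, 75],
  [27, 27, 112, 75, 82, 74],
  [46, 34, 26, 92, 82, 112, 75, 66],
  [45, 30, 112, 92, 113, 74],
  [43, 27, 0, 74, 102, 93],
  [54, 30, 27, 74, 74],
  [33, 26, 102, 82, 82, 66],
  [37, 29, 82, 66, 113, 82],
  [57, 53, 31, 74, 66, 102, 74],
  [1, 33, 0, 112, 74, 112, 93, 67],
  [35, 28, 0, 66, 103, 67, 74],
  [41, 45, 102, 92, 102, 92]]

/-- A Sylow subgroup for 5. -/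
noncomputable def syl5Words : List (List ℕ) := [
  [],
  [33, 56, 0, 82, 103, 92, 113],
  [31, 43, 28, 75, 112, 83, 74],
  [40, 32, 26, 112, 112, 93, 82],
  [34, 48, 67, 93, 82, 82],
  [40, 32, 26, 102, 75, 103, 74],
  [34, 48, 74, 93, 82, 67],
  [33, 56, 0, 93, 82, 74, 92],
  [113, 75, 75, 112],
  [40, 32, 26, 67, 112, 74, 92],
  [33, 56, 0, 112, 112, 66, 103],
  [34, 48, 103, 92, 92],
  [31, 43, 28, 103, 74, 102, 112],
  [31, 43, 28, 82, 93, 66],
  [113, 74, 74, 112],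
  [113, 74, 112],
  [33, 56, 0, 113, 74, 112, 75],
  [31, 43, 28, 74, 67, 75],
  [40, 32, 26, 67, 83, 92, 67],
  [40, 32, 26, 83, 83, 75, 75],
  [31, 43, 28, 92, 66, 75],
  [113, 75, 112],
  [34, 48, 74, 92, 67, 75],
  [33, 56, 0, 103, 93, 103, 83],
  [34, 48, 82, 92, 66, 92]]

/-- A Sylow subgroup for 13. -/
noncomputable def syl13Words : List (List ℕ) := [
  [],
  [39, 35, 26, 67, 74, 67, 75],
  [56, 28, 74, 92, 92, 66, 66],
  [1, 44, 1, 112, 83, 102, 82, 66],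
  [0, 46, 26, 82, 113, 66, 74],
  [30, 48, 1, 93, 103, 67, 102],
  [43, 39, 83, 93, 102, 66],
  [33, 112, 92, 66, 112],
  [43, 43, 112, 103, 67, 82],
  [39, 51, 1, 102, 75, 113, 103],
  [38, 27, 0, 93, 82, 74, 92],
  [40, 32, 26, 67, 75, 67, 112],
  [53, 38, 27, 83, 93, 113, 66]]

/-- Witnesses for its elements. -/
noncomputable def syl13Wits : List Wit := [
  ([49, 57, 44], [45, 56, 48], [33, 34, 26, 66, 75, 102, 102], [103, 103, 74, 67, 27, 35, 32]),
  ([38, 43, 35], [34, 42, 39], [31, 41, 0, 83, 67, 112, 66], [67, 113, 66, 82, 3, 40, 30]),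
  ([47, 38, 43], [42, 39, 46], [53, 41, 93, 102, 112, 83, 66], [67, 82, 113, 103, 92, 40, 52]),
  ([28, 55, 44], [45, 54, 29], [55, 44, 26, 113, 75, 113], [112, 74, 112, 27, 45, 54]),
  ([51, 53, 27], [26, 52, 50], [51, 1, 0, 93, 67, 82], [83, 66, 92, 3, 5, 50]),
  ([45, 27, 52], [53, 26, 44], [35, 40, 0, 74, 66, 102, 93], [92, 103, 67, 75, 3, 41, 34]),
  ([49, 54, 37], [36, 55, 48], [0, 40, 67, 83], [82, 66, 41, 3]),
  ([39, 51, 42], [43, 50, 38], [27, 55, 112, 75, 112, 67, 74], [75, 66, 113, 74, 113, 54, 26]),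
  ([42, 57, 46], [47, 56, 43], [0, 42, 0, 67, 82, 113], [112, 83, 66, 3, 43, 3]),
  ([55, 49, 30], [31, 48, 54], [26, 57, 102, 74, 102, 92], [93, 103, 75, 103, 56, 27]),
  ([48, 37, 41], [40, 36, 49], [35, 40, 0, 74, 66, 82], [83, 67, 75, 3, 41, 34]),
  ([51, 0, 53], [52, 3, 50], [57, 26, 113, 83, 92, 92], [93, 93, 82, 112, 27, 56])]


end CfsgLib.Lie.TitsSquare
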