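import Cfsg.Agent.Lib.Lie.TitsSquare.Perms
import Cfsg.Agent.Lib.Lie.TitsSquare.Orbits
import Cfsg.Agent.Lib.Lie.TitsSquare.Sylow2
import Cfsg.Agent.Lib.Lie.TitsSquare.Witnesses
import Cfsg.Agent.Lib.Lie.MultExc.Tits.Table
import Cfsg.Agent.Lib.Lie.MultExc.Tits.Bits
import Mathlib.Data.Finset.Card

/-!
The Boolean checks of the certificate.
-/

set_option autoImplicit false

namespace CfsgLib.Lie.TitsSquare

open CfsgLib.Lie.MultExc.Tits

/-- One packed entry. -/
def up (w v i : ℕ) : ℕ := (v >>> (w * i)) &&& (2 ^ w - 1)

/-- A Boolean test at every index below a bound. -/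
def allUpTo (f : ℕ → Bool) : ℕ → Bool
  | 0 => true
  | n + 1 => f n && allUpTo f n

theorem allUpTo_spec {f : ℕ → Bool} : ∀ {n : ℕ}, allUpTo f n = true → ∀ i < n, f i = true
  | 0, _, i, hi => absurd hi (Nat.not_lt_zero i)
  | n + 1, h, i, hi => by
    rw [allUpTo, Bool.and_eq_true] at h
    rcases Nat.lt_succ_iff_lt_or_eq.1 hi with h' | rfl
    · exact allUpTo_spec h.2 i h'
    · exact h.1

/-- The number of indices below a bound passing a test. -/
def countUpTo (f : ℕ → Bool) : ℕ → ℕ
  | 0 => 0
  | n + 1 => cond (f n) (countUpTo f n + 1) (countUpTo f n)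

theorem countUpTo_eq (f : ℕ → Bool) :
    ∀ n : ℕ, countUpTo f n = ((Finset.range n).filter fun i => f i = true).card
  | 0 => rfl
  | n + 1 => by
    rw [countUpTo, Finset.range_add_one, Finset.filter_insert, countUpTo_eq f n]
    cases f n <;> simp

/-- A word from its digits. -/
def dec (w : ℕ) : ℕ → ℕ → List ℕ
  | 0, _ => []
  | f + 1, v => cond (Nat.beq v 0) [] ((v % 2 ^ w - 1) :: dec w f (v >>> w))

/-- The image of a point. -/
noncomputable def at_ (k i : ℕ) : ℕ := up 11 (perm k) i

/-- The image of a point under a word. -/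
noncomputable def ev (w : List ℕ) (i : ℕ) : ℕ := w.foldr at_ i

/-- The bit vector of a point. -/
noncomputable def pt (i : ℕ) : ℕ := up 52 ptsTab i

/-- The points of a line. -/
noncomputable def lineA (i : ℕ) : ℕ := up 11 (up 33 lineTab i) 2
/-- The second point. -/
noncomputable def lineB (i : ℕ) : ℕ := up 11 (up 33 lineTab i) 1
/-- The third point. -/
noncomputable def lineC (i : ℕ) : ℕ := up 11 (up 33 lineTab i) 0

/-- Whether a point is on a line. -/
noncomputable def onLine (i c : ℕ) : Bool := Nat.beq c (lineA i) || Nat.beq c (lineB i) || Nat.beq c (lineC i)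

/-- Whether a map of points sends one line into another. -/
noncomputable def mapsLine (f : ℕ → ℕ) (i j : ℕ) : Bool :=
  onLine j (f (lineA i)) && onLine j (f (lineB i)) && onLine j (f (lineC i))

/-- The images of the chosen points, as one number. -/
noncomputable def code (w : List ℕ) : ℕ := basePts.foldl (fun r c => r * 2048 + ev w c) 0

/-- The indices of a word are in range. -/
def wordOK (w : List ℕ) : Bool := w.all fun k => Nat.blt k permLen

/-- The table of a generator. -/
noncomputable def genTable (k : ℕ) : ℕ := (eltRows.getD (k / 16) []).getD (k % 16) 0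

/-- The generators act by the tables. -/
noncomputable def genStepOK (k i : ℕ) : Bool :=
  Nat.blt (at_ k i) 1755 && Nat.beq (nibStep (genTable k) 13 (pt i)) (pt (at_ k i))

/-- The tables of points and lines are increasing and in range. -/
noncomputable def shapeChecks : Bool :=
  allUpTo (fun i => Nat.blt (pt i) (pt (i + 1))) 1754 &&
  allUpTo (fun i => Nat.blt (lineA i) (lineB i) && Nat.blt (lineB i) (lineC i) && Nat.blt (lineC i) 1755) 2925 &&
  allUpTo (fun i => Nat.blt (up 33 lineTab i) (up 33 lineTab (i + 1))) 2924

/-- The line permutations of the two generators. -/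
noncomputable def lineChecks : Bool :=
  allUpTo (fun i => (Nat.blt (up 12 linePerm0 i) 2925 && mapsLine (at_ 0) i (up 12 linePerm0 i)) &&
    (Nat.blt (up 12 linePerm1 i) 2925 && mapsLine (at_ 1) i (up 12 linePerm1 i))) 2925

/-- An element is a product. -/
noncomputable def prodOK (k : ℕ) : Bool :=
  Nat.blt (up 8 opsA k) k && Nat.blt (up 8 opsB k) k &&
    allUpTo (fun i => Nat.beq (at_ k i) (at_ (up 8 opsA k) (at_ (up 8 opsB k) i))) 1755

/-- The word moving the first point. -/
noncomputable def transWord (c : ℕ) : List ℕ := dec 8 3 (up 24 transTab c)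

/-- The word moving the first line. -/
noncomputable def lineTransWord (i : ℕ) : List ℕ := dec 8 4 (up 32 lineTransTab i)

/-- The transversals. -/
noncomputable def transChecks : Bool :=
  allUpTo (fun c => wordOK (transWord c) && Nat.beq (ev (transWord c) p0) c) 1755 &&
  allUpTo (fun i => wordOK (lineTransWord i) && mapsLine (ev (lineTransWord i)) l0 i) 2925

/-- The words fix some points and have increasing images at one more. -/
noncomputable def levelOK (fixed : List ℕ) (c : ℕ) : ℕ → List (List ℕ) → Bool
  | _, [] => true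
  | m, w :: ws => wordOK w && (fixed.all fun d => Nat.beq (ev w d) d) && Nat.blt m (ev w c + 1) &&
      levelOK fixed c (ev w c + 1) ws

/-- The stabiliser chain. -/
noncomputable def chainChecks : Bool :=
  Nat.beq level1.length 10 && Nat.beq level2.length 512 && Nat.beq level3.length 2 &&
  levelOK (basePts.take 1) (basePts.getD 1 0) 0 level1 && levelOK (basePts.take 2) (basePts.getD 2 0) 0 level2 &&
  levelOK (basePts.take 3) (basePts.getD 3 0) 0 level3

/-- The word of an element of the Sylow subgroup. -/
noncomputable def btWord : ℕ → ℕ → List ℕ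
  | 0, _ => []
  | f + 1, i => cond (Nat.beq i 0) [] (sylowGens.getD (up 4 genTab i) 0 :: btWord f (up 11 parTab i))

/-- The word of the element with a given index. -/
noncomputable def bw (i : ℕ) : List ℕ := btWord 12 i

/-- The images of the chosen points under it. -/
noncomputable def btCode (i : ℕ) : ℕ := up 44 btTab i

/-- The Sylow subgroup for two is listed. -/
noncomputable def btListChecks : Bool :=
  allUpTo (fun i => wordOK (bw i) && Nat.blt (up 4 genTab i) 11 && Nat.beq (code (bw i)) (btCode i) &&
    Nat.beq (ev (bw i) p0) p0 && mapsLine (ev (bw i)) l0 l0) 2048 &&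
  allUpTo (fun j => Nat.blt (btCode (up 11 ordTab j)) (btCode (up 11 ordTab (j + 1)))) 2047

/-- The list is closed under a generator. -/
noncomputable def btNextOK (s : ℕ) : Bool :=
  (fun T k => allUpTo (fun i => Nat.beq (code (k :: bw i)) (btCode (up 11 T i))) 2048)
    (nextTabs.getD s 0) (sylowGens.getD s 0)

/-- A conjugating word. -/
noncomputable def conjWord (i : ℕ) : List ℕ :=
  (dec 4 4 (up 16 conjTab i)).map fun s => sylowGens.getD s 0

/-- The classes. -/
noncomputable def classChecks : Bool :=
  allUpTo (fun i => (Nat.beq i 0 || (repWits.any fun e => Nat.beq e.1 (up 11 rootTab i))) &&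
    wordOK (conjWord i) && Nat.blt (up 11 rootTab i) 2048 &&
    Nat.beq (code (bw i ++ conjWord i)) (code (conjWord i ++ bw (up 11 rootTab i)))) 2048

/-- A witness for a target. -/
noncomputable def witOK (t : Wit) (target : List ℕ) : Bool :=
  wordOK t.1 && wordOK t.2.1 && wordOK t.2.2.1 && wordOK t.2.2.2 &&
  Nat.beq (code (t.1 ++ t.2.1)) (code []) && Nat.beq (code (t.2.2.1 ++ t.2.2.2)) (code []) &&
  Nat.beq (code (t.1 ++ xWord ++ t.2.1 ++ (t.2.2.1 ++ xWord ++ t.2.2.2))) (code target)

/-- The number of fixed lines. -/
noncomputable def countLines (w : List ℕ) : ℕ := countUpTo (fun i => mapsLine (ev w) i i) 2925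

/-- The number of fixed points. -/
noncomputable def countPts (w : List ℕ) : ℕ := countUpTo (fun i => Nat.beq (ev w i) i) 1755

/-- A representative. -/
noncomputable def repOK (e : ℕ × Wit) : Bool :=
  Nat.blt e.1 2048 && witOK e.2 (bw e.1) &&
    (!Nat.beq (code (bw e.1 ++ bw e.1)) (code []) || !Nat.beq (countLines (bw e.1) % 13) 0)

/-- The powers of a word. -/
def wordPow (w : List ℕ) : ℕ → List ℕ
  | 0 => []
  | n + 1 => wordPow w n ++ w

/-- The elements commuting with one element. -/
noncomputable def commOK (c : List ℕ) (L : List (ℕ × List Wit)) (q : ℕ) : Bool :=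
  allUpTo (fun i => !Nat.beq (code (bw i ++ c)) (code (c ++ bw i)) || L.any fun e => Nat.beq e.1 i) 2048 &&
  L.all fun e => Nat.beq (e.2.length + 1) q &&
    allUpTo (fun j => witOK (e.2.getD j ([], [], [], [])) (bw e.1 ++ wordPow c (j + 1))) (q - 1)

/-- A list of words forming a group. -/
noncomputable def groupOK (L : List (List ℕ)) : Bool :=
  (fun C => (L.all wordOK) && C.contains (code []) && decide C.Nodup &&
    L.all fun u => L.all fun v => C.contains (code (u ++ v)))
  (L.map code)

/-- The small Sylow subgroups. -/
noncomputable def sylowChecks : Bool :=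
  groupOK syl3Words && groupOK syl5Words && groupOK syl13Words &&
  Nat.beq syl3Words.length 27 && Nat.beq syl5Words.length 25 && Nat.beq syl13Words.length 13 &&
  (syl3Words.all fun w => Nat.beq (code (w ++ w ++ w)) (code [])) &&
  (syl5Words.all fun w => Nat.beq (code (wordPow w 5)) (code [])) &&
  (Nat.beq syl13Words.length (syl13Wits.length + 1)) && Nat.beq (code (syl13Words.getD 0 [])) (code []) &&
  allUpTo (fun j => witOK (syl13Wits.getD j ([], [], [], [])) (syl13Words.getD (j + 1) [])) 12

/-- The named elements. -/
noncomputable def elementChecks : Bool :=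
  wordOK xWord && wordOK aWord && wordOK bWord && wordOK sylowGens &&
  !Nat.beq (code xWord) (code []) && Nat.beq (code (wordPow xWord 13)) (code []) &&
  Nat.beq (code (wordPow aWord 3)) (code []) && mapsLine (ev aWord) l0 l0 && !Nat.beq (ev aWord p0) p0 &&
  Nat.beq (code (wordPow bWord 5)) (code []) && Nat.beq (ev bWord p0) p0 && !mapsLine (ev bWord) l0 l0

/-- The fixed lines of the elements of order three. -/
noncomputable def count3OK (w : List ℕ) : Bool :=
  Nat.beq (code w) (code []) || (fun m => Nat.blt m 13 && !Nat.beq (m % 2) 0 && !Nat.beq (m % 5) 0) (countLines w)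

/-- The fixed points of the elements of order five. -/
noncomputable def count5OK (w : List ℕ) : Bool :=
  Nat.beq (code w) (code []) || (fun m => Nat.blt m 13 && !Nat.beq (m % 2) 0) (countPts w)

end CfsgLib.Lie.TitsSquare
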