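import Mathlib.GroupTheory.Sylow
import Mathlib.GroupTheory.PGroup
import Mathlib.Data.Int.GCD
import Mathlib.GroupTheory.Perm.Cycle.Type
import Mathlib.Tactic

/-!
The case analysis over element orders in a group of order `2 ^ 11 * 3 ^ 3 * 5 ^ 2 * 13` with two
transitive actions.
-/

set_option autoImplicit false

namespace CfsgLib.Lie.TitsSquare

variable {G : Type*} [Group G]

theorem conj_into [Finite G] (P : Subgroup G) {q k i : ℕ} (hq : q.Prime) (hP : Nat.card P = q ^ k)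
    (hk : ¬ q ^ (k + 1) ∣ Nat.card G) {g : G} (hg : g ^ q ^ i = 1) : ∃ u : G, u * g * u⁻¹ ∈ P := by
  haveI : Fact q.Prime := ⟨hq⟩
  have hPq : IsPGroup q P := IsPGroup.of_card hP
  obtain ⟨S, hS⟩ := hPq.exists_le_sylow
  have hSP : (S : Subgroup G) = P := by
    obtain ⟨m, hm⟩ := S.2.exists_card_eq
    have hmk : m ≤ k := by
      by_contra h
      exact hk (dvd_trans (pow_dvd_pow q (by omega : k + 1 ≤ m)) (hm ▸ Subgroup.card_subgroup_dvd_card _))
    refine (Subgroup.eq_of_le_of_card_ge hS ?_).symm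
    rw [hP, hm]
    exact Nat.pow_le_pow_right hq.pos hmk
  have hgq : IsPGroup q (Subgroup.zpowers g) := by
    obtain ⟨j, -, hj⟩ := (Nat.dvd_prime_pow hq).1 (orderOf_dvd_of_pow_eq_one hg)
    exact IsPGroup.of_card ((Nat.card_zpowers g).trans hj)
  obtain ⟨R, hR⟩ := hgq.exists_le_sylow
  obtain ⟨u, hu⟩ := MulAction.exists_smul_eq G R S
  refine ⟨u, ?_⟩
  rw [← hSP, ← hu]
  exact Subgroup.mem_map.2 ⟨g, hR (Subgroup.mem_zpowers g), rfl⟩

/-- The number of fixed points. -/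
noncomputable def fixNum (α : Type*) [MulAction G α] (g : G) : ℕ := Nat.card {x : α // g • x = x}

theorem fixNum_conj {α : Type*} [MulAction G α] (g u : G) : fixNum α (u * g * u⁻¹) = fixNum α g :=
  (Nat.card_congr (Equiv.subtypeEquiv (MulAction.toPerm u) fun x => by
    simp only [MulAction.toPerm_apply, mul_smul, inv_smul_smul, smul_left_cancel_iff])).symm

theorem exists_common {α : Type*} [MulAction G α] [Finite α] {q i : ℕ} (hq : q.Prime) {h c : G}
    (hc : h * c = c * h) (hh : h ^ q ^ i = 1) (hm : ¬ q ∣ fixNum α c) :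
    ∃ x : α, c • x = x ∧ h • x = x := by
  classical
  haveI := Fintype.ofFinite α
  haveI : Fact q.Prime := ⟨hq⟩
  have hiff : ∀ x : α, c • h • x = h • x ↔ c • x = x := fun x => by
    rw [← mul_smul, ← hc, mul_smul, smul_left_cancel_iff]
  let f : Equiv.Perm {x : α // c • x = x} :=
    (MulAction.toPerm h).subtypePerm fun x => by simp only [MulAction.toPerm_apply, hiff]
  have hf : ∀ (n : ℕ) (x), ((f ^ n) x : α) = h ^ n • (x : α) := by
    intro n
    induction n with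
    | zero => intro x; simp
    | succ n ih => intro x; rw [pow_succ', Equiv.Perm.mul_apply, pow_succ', mul_smul, ← ih]; rfl
  have h1 : f ^ q ^ i = 1 := Equiv.ext fun x => Subtype.ext (by rw [hf, hh, one_smul]; rfl)
  obtain ⟨y, hy⟩ := Equiv.Perm.exists_fixed_point_of_prime
    (by rwa [← Nat.card_eq_fintype_card]) h1
  exact ⟨y.1, y.2, congrArg Subtype.val hy⟩

theorem fix_of_commute [Finite G] {α : Type*} [MulAction G α] (K B : Subgroup G) (x : α) {q : ℕ} (hq : q.Prime)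
    (hK : Nat.card K = q * Nat.card B) (hBK : B ≤ K) (hBx : ∀ y ∈ B, y • x = x) {a : G} (ha : a ∈ K)
    (haq : a ^ q = 1) (hax : a • x ≠ x) :
    (∀ y ∈ K, y • x = x → y ∈ B) ∧
      ∀ r ∈ K, ∀ N : ℕ, ¬ q ∣ N → r ^ N = 1 → r * a = a * r → r • x = x := by
  classical
  let D : Subgroup G := K ⊓ MulAction.stabilizer G x
  have hBD : B ≤ D := fun y hy => ⟨hBK hy, hBx y hy⟩
  have hBpos : 0 < Nat.card B := Nat.card_pos
  have hD : D = B := by
    obtain ⟨m, hm⟩ := Subgroup.card_dvd_of_le hBD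
    have h2 : Nat.card D ∣ Nat.card K := Subgroup.card_dvd_of_le (inf_le_left : D ≤ K)
    rw [hm, hK, mul_comm q] at h2
    rcases (Nat.dvd_prime hq).1 ((Nat.mul_dvd_mul_iff_left hBpos).1 h2) with rfl | rfl
    · exact (Subgroup.eq_of_le_of_card_ge hBD (by rw [hm, mul_one])).symm
    · have : D = K := Subgroup.eq_of_le_of_card_ge inf_le_left (by rw [hm, hK, mul_comm])
      exact absurd (this.symm ▸ ha : a ∈ D).2 hax
  have hmem : ∀ y ∈ K, y • x = x → y ∈ B := fun y h1 h2 => hD ▸ (show y ∈ D from ⟨h1, h2⟩)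
  refine ⟨hmem, ?_⟩
  haveI : Fact q.Prime := ⟨hq⟩
  have hord : orderOf a = q := orderOf_eq_prime haq fun h => hax (by rw [h, one_smul])
  have hnot : ∀ j, a ^ j • x = x → q ∣ j := by
    intro j hj
    by_contra hd
    have hcop : Nat.Coprime j (orderOf a) := by
      rw [hord]; exact ((hq.coprime_iff_not_dvd).2 hd).symm
    obtain ⟨m, hm⟩ := exists_pow_eq_self_of_coprime hcop
    have hs : a ^ j ∈ MulAction.stabilizer G x := hj
    exact hax (hm ▸ pow_mem hs m)
  let f : Fin q × B → K := fun y => ⟨a ^ (y.1 : ℕ) * y.2, mul_mem (pow_mem ha _) (hBK y.2.2)⟩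
  have hf : Function.Injective f := by
    rintro ⟨i, b⟩ ⟨j, c⟩ h
    have h : a ^ (i : ℕ) * b = a ^ (j : ℕ) * c := congrArg Subtype.val h
    have key : ∀ i j : ℕ, i ≤ j → j < q → ∀ b c : B, a ^ i * b = a ^ j * c → i = j ∧ b = c := by
      intro i j hij hj b c h
      obtain ⟨d, rfl⟩ := Nat.exists_eq_add_of_le hij
      rw [pow_add, mul_assoc, mul_left_cancel_iff] at h
      have hd : q ∣ d := hnot d (by
        rw [eq_mul_inv_of_mul_eq h.symm, mul_smul, hBx _ (inv_mem c.2), hBx _ b.2])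
      obtain rfl : d = 0 := Nat.eq_zero_of_dvd_of_lt hd (by omega)
      rw [pow_zero, one_mul] at h
      exact ⟨rfl, Subtype.ext h⟩
    rcases le_total (i : ℕ) j with hij | hij
    · obtain ⟨h1, h2⟩ := key _ _ hij j.2 b c h
      exact Prod.ext (Fin.ext h1) h2
    · obtain ⟨h1, h2⟩ := key _ _ hij i.2 c b h.symm
      exact Prod.ext (Fin.ext h1.symm) h2.symm
  have hbij : Function.Bijective f :=
    (Nat.bijective_iff_injective_and_card f).2 ⟨hf, by rw [Nat.card_prod, Nat.card_fin, hK]⟩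
  intro r hr N hN hrN hcomm
  obtain ⟨⟨j, d⟩, hjd⟩ := hbij.2 ⟨r, hr⟩
  have hjd : a ^ (j : ℕ) * d = r := congrArg Subtype.val hjd
  have hrx : r • x = a ^ (j : ℕ) • x := by rw [← hjd, mul_smul, hBx _ d.2]
  have hc : ∀ m : ℕ, r * a ^ m = a ^ m * r := fun m => (Commute.pow_right hcomm m).eq
  have hiter : ∀ m : ℕ, r ^ m • x = a ^ ((j : ℕ) * m) • x := by
    intro m
    induction m with
    | zero => simp
    | succ m ih =>
      rw [pow_succ', mul_smul, ih, ← mul_smul, hc, mul_smul, hrx, ← mul_smul, ← pow_add, Nat.mul_succ]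
  have h1 : q ∣ (j : ℕ) * N := hnot _ (by rw [← hiter, hrN, one_smul])
  rcases hq.dvd_mul.1 h1 with h | h
  · rw [hrx, Nat.eq_zero_of_dvd_of_lt h j.2, pow_zero, one_smul]
  · exact absurd h hN

theorem split_commute {q M : ℕ} (hcop : Nat.Coprime q M) {g : G} (hg : g ^ (q * M) = 1) :
    ∃ h r : G, g = r * h ∧ h * r = r * h ∧ h ^ q = 1 ∧ r ^ M = 1 := by
  have e : (1 : ℤ) = q * Nat.gcdA q M + M * Nat.gcdB q M := by
    have := Nat.gcd_eq_gcd_ab q M
    rwa [hcop.gcd_eq_one] at this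
  have hg' : g ^ ((q : ℤ) * M) = 1 := by rw [← Int.natCast_mul, zpow_natCast, hg]
  refine ⟨g ^ ((M : ℤ) * Nat.gcdB q M), g ^ ((q : ℤ) * Nat.gcdA q M), ?_, ?_, ?_, ?_⟩
  · rw [← zpow_add, ← e, zpow_one]
  · rw [← zpow_add, ← zpow_add, add_comm]
  · rw [← zpow_natCast, ← zpow_mul, show (M : ℤ) * Nat.gcdB q M * q = q * M * Nat.gcdB q M by ring, zpow_mul, hg',
      one_zpow]
  · rw [← zpow_natCast, ← zpow_mul, show (q : ℤ) * Nat.gcdA q M * M = q * M * Nat.gcdA q M by ring, zpow_mul, hg',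
      one_zpow]

theorem prime_dvd_order {l : ℕ} (hl : l.Prime) (h : l ∣ 17971200) : l = 2 ∨ l = 3 ∨ l = 5 ∨ l = 13 := by
  rw [show 17971200 = 2 ^ 11 * 3 ^ 3 * 5 ^ 2 * 13 by norm_num] at h
  rcases hl.dvd_mul.1 h with h | h
  rcases hl.dvd_mul.1 h with h | h
  rcases hl.dvd_mul.1 h with h | h
  · left; exact (Nat.prime_dvd_prime_iff_eq hl Nat.prime_two).1 (hl.dvd_of_dvd_pow h)
  · right; left; exact (Nat.prime_dvd_prime_iff_eq hl Nat.prime_three).1 (hl.dvd_of_dvd_pow h)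
  · right; right; left; exact (Nat.prime_dvd_prime_iff_eq hl (by norm_num)).1 (hl.dvd_of_dvd_pow h)
  · right; right; right; exact (Nat.prime_dvd_prime_iff_eq hl (by norm_num)).1 h

theorem two_pow_of {n : ℕ} (h : n ∣ 17971200) (h3 : ¬ 3 ∣ n) (h5 : ¬ 5 ∣ n) (h13 : ¬ 13 ∣ n) :
    ∃ i, n = 2 ^ i := by
  have hc : Nat.Coprime n (3 ^ 3 * 5 ^ 2 * 13) :=
    Nat.Coprime.mul_right (Nat.Coprime.mul_right
      (((Nat.prime_three.coprime_iff_not_dvd).2 h3).symm.pow_right 3)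
      ((((by norm_num : Nat.Prime 5).coprime_iff_not_dvd).2 h5).symm.pow_right 2))
      (((by norm_num : Nat.Prime 13).coprime_iff_not_dvd).2 h13).symm
  have h2 : n ∣ 2 ^ 11 := hc.dvd_of_dvd_mul_right (by norm_num; exact h)
  obtain ⟨i, -, hi⟩ := (Nat.dvd_prime_pow Nat.prime_two).1 h2
  exact ⟨i, hi⟩

theorem conj_pow_eq (u g : G) (n : ℕ) : (u * g * u⁻¹) ^ n = u * g ^ n * u⁻¹ := conj_pow

/-- The elements of order `q * 2 ^ i`, conjugated into the stabiliser of one point. -/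
theorem mixed_case [Finite G] {α β : Type*} [MulAction G α] [Finite α] [MulAction G β] (P : G → Prop)
    (hconj : ∀ g u : G, P g → P (u * g * u⁻¹)) (Q B : Subgroup G) (x₀ : α) (y₀ : β) {q k i : ℕ} (hq : q.Prime)
    (hq2 : q ≠ 2) (hQ : Nat.card Q = q ^ k) (hk : ¬ q ^ (k + 1) ∣ Nat.card G)
    (hQfix : ∀ h ∈ Q, h ≠ 1 → ¬ 2 ∣ fixNum α h)
    (htr : ∀ x : α, ∃ u : G, u • x₀ = x)
    (hK : Nat.card (MulAction.stabilizer G x₀) = q * Nat.card B) (hBq : ¬ q ∣ Nat.card B)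
    (hBx : ∀ y ∈ B, y • x₀ = x₀) (hBy : ∀ y ∈ B, y • y₀ = y₀) {a : G} (ha : a • x₀ = x₀) (haq : a ^ q = 1)
    (hay : a • y₀ ≠ y₀) (hgood : ∀ r ∈ B, r * a = a * r → ∀ j, 0 < j → j < q → P (r * a ^ j))
    {g : G} (hg : orderOf g = q * 2 ^ i) : P g := by
  classical
  haveI : Fact q.Prime := ⟨hq⟩
  have hcop : Nat.Coprime q (2 ^ i) := ((Nat.coprime_primes hq Nat.prime_two).2 hq2).pow_right i
  obtain ⟨h, r, rfl, hhr, hhq, hrM⟩ := split_commute hcop (g := g) (by rw [← hg, pow_orderOf_eq_one])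
  have hh1 : h ≠ 1 := by
    rintro rfl
    rw [mul_one] at hg
    have h1 := Nat.le_of_dvd (pow_pos two_pos i) (orderOf_dvd_of_pow_eq_one hrM)
    rw [hg] at h1
    have := hq.two_le
    nlinarith [pow_pos (two_pos : 0 < 2) i]
  obtain ⟨u, hu⟩ := conj_into Q hq hQ hk (i := 1) (g := h) (by rw [pow_one, hhq])
  have hodd : ¬ 2 ∣ fixNum α h := by
    rw [← fixNum_conj h u]
    exact hQfix _ hu fun e => hh1 (conj_eq_one_iff.1 e)
  obtain ⟨x, hhx, hrx⟩ := exists_common (α := α) Nat.prime_two hhr.symm hrM hodd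
  obtain ⟨v, rfl⟩ := htr x
  -- move the common fixed point to the base point
  let K := MulAction.stabilizer G x₀
  have hh' : v⁻¹ * h * v ∈ K := by
    show (v⁻¹ * h * v) • x₀ = x₀
    rw [mul_smul, mul_smul, hhx, inv_smul_smul]
  have hr' : v⁻¹ * r * v ∈ K := by
    show (v⁻¹ * r * v) • x₀ = x₀
    rw [mul_smul, mul_smul, hrx, inv_smul_smul]
  have haK : a ∈ K := ha
  have hord : orderOf a = q := orderOf_eq_prime haq fun e => hay (by rw [e, one_smul])
  obtain ⟨⟨w, hwK⟩, hw⟩ := conj_into ((Subgroup.zpowers a).subgroupOf K) hq (k := 1)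
    (by rw [pow_one, Nat.card_congr (Subgroup.subgroupOfEquivOfLe
      (by rw [Subgroup.zpowers_le]; exact haK)).toEquiv, Nat.card_zpowers, hord])
    (by
      rw [pow_two, show Nat.card K = q * Nat.card B from hK, Nat.mul_dvd_mul_iff_left hq.pos]
      exact hBq)
    (i := 1) (g := (⟨v⁻¹ * h * v, hh'⟩ : K)) (Subtype.ext (by
      show (v⁻¹ * h * v) ^ q ^ 1 = 1
      have := conj_pow_eq v⁻¹ h q
      rw [inv_inv] at this
      rw [pow_one, this, hhq]; group))
  have hwa : w * (v⁻¹ * h * v) * w⁻¹ ∈ Subgroup.zpowers a := hw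
  obtain ⟨j, hj⟩ := mem_powers_iff_mem_zpowers.2 hwa
  simp only at hj
  let j' := j % q
  have hj' : a ^ j' = w * (v⁻¹ * h * v) * w⁻¹ := by
    rw [← hj]; show a ^ (j % q) = a ^ j
    rw [← hord, pow_mod_orderOf]
  have hjpos : 0 < j' := by
    rcases Nat.eq_zero_or_pos j' with e | e
    · rw [e, pow_zero] at hj'
      exact absurd (by
        have := congrArg (fun z => v * (w⁻¹ * z * w) * v⁻¹) hj'
        simp only [mul_assoc, mul_inv_cancel_left, inv_mul_cancel_left, mul_one, mul_inv_cancel,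
          inv_mul_cancel] at this
        exact this.symm) hh1
    · exact e
  have hjlt : j' < q := Nat.mod_lt _ hq.pos
  let r' := w * (v⁻¹ * r * v) * w⁻¹
  have hr'K : r' ∈ K := mul_mem (mul_mem hwK hr') (inv_mem hwK)
  have hcomm' : Commute r' (a ^ j') := by
    rw [hj', commute_iff_eq]
    simp only [r', mul_assoc, inv_mul_cancel_left, mul_inv_cancel_left]
    rw [← mul_assoc r h, ← hhr, mul_assoc]
  have hcomm : r' * a = a * r' := by
    have hcj : Nat.Coprime j' (orderOf a) := by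
      rw [hord]
      exact ((hq.coprime_iff_not_dvd).2 fun e => by have := Nat.le_of_dvd hjpos e; omega).symm
    obtain ⟨m, hm⟩ := exists_pow_eq_self_of_coprime hcj
    rw [← hm]
    exact (hcomm'.pow_right m).eq
  have hrpow : r' ^ 2 ^ i = 1 := by
    show (w * (v⁻¹ * r * v) * w⁻¹) ^ 2 ^ i = 1
    rw [conj_pow_eq]
    have := conj_pow_eq v⁻¹ r (2 ^ i)
    rw [inv_inv] at this
    rw [this, hrM]; group
  obtain ⟨hmem, hfix⟩ := fix_of_commute K B y₀ hq hK (fun y hy => hBx y hy) hBy haK haq hay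
  have hry : r' • y₀ = y₀ :=
    hfix r' hr'K (2 ^ i) (fun e => hq2 ((Nat.prime_dvd_prime_iff_eq hq Nat.prime_two).1 (hq.dvd_of_dvd_pow e)))
      hrpow hcomm
  have hP := hgood r' (hmem r' hr'K hry) hcomm j' hjpos hjlt
  have := hconj _ (v * w⁻¹) hP
  rw [hj'] at this
  simp only [r', mul_inv_rev, inv_inv, mul_assoc, inv_mul_cancel_left, mul_inv_cancel_left, mul_inv_cancel,
    mul_one] at this
  exact this

/-- Every nonidentity element has the property. -/
theorem good_of_data [Finite G] {Ω Λ : Type*} [MulAction G Ω] [Finite Ω] [MulAction G Λ] [Finite Λ] (P : G → Prop)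
    (hconj : ∀ g u : G, P g → P (u * g * u⁻¹))
    (B P3 P5 P13 : Subgroup G) (p₀ : Ω) (L₀ : Λ) (a b : G)
    (hG : Nat.card G = 17971200) (hB : Nat.card B = 2048) (h3 : Nat.card P3 = 27) (h5 : Nat.card P5 = 25)
    (h13 : Nat.card P13 = 13)
    (hp : Nat.card (MulAction.stabilizer G p₀) = 10240) (hL : Nat.card (MulAction.stabilizer G L₀) = 6144)
    (htp : ∀ x : Ω, ∃ u : G, u • p₀ = x) (htl : ∀ x : Λ, ∃ u : G, u • L₀ = x)
    (hBp : ∀ y ∈ B, y • p₀ = p₀) (hBL : ∀ y ∈ B, y • L₀ = L₀)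
    (ha : a ^ 3 = 1) (haL : a • L₀ = L₀) (hap : a • p₀ ≠ p₀)
    (hb : b ^ 5 = 1) (hbp : b • p₀ = p₀) (hbL : b • L₀ ≠ L₀)
    (e3 : ∀ h ∈ P3, h ^ 3 = 1) (e5 : ∀ h ∈ P5, h ^ 5 = 1)
    (f3 : ∀ h ∈ P3, h ≠ 1 → fixNum Λ h < 13 ∧ ¬ 2 ∣ fixNum Λ h ∧ ¬ 5 ∣ fixNum Λ h)
    (f5 : ∀ h ∈ P5, h ≠ 1 → fixNum Ω h < 13 ∧ ¬ 2 ∣ fixNum Ω h)
    (f2 : ∀ e ∈ B, e ≠ 1 → e * e = 1 → ¬ 13 ∣ fixNum Λ e)
    (g2 : ∀ g ∈ B, g ≠ 1 → P g) (g13 : ∀ g ∈ P13, g ≠ 1 → P g)
    (gA : ∀ r ∈ B, r * a = a * r → ∀ j, 0 < j → j < 3 → P (r * a ^ j))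
    (gB : ∀ r ∈ B, r * b = b * r → ∀ j, 0 < j → j < 5 → P (r * b ^ j)) :
    ∀ g : G, g ≠ 1 → P g := by
  intro g hg1
  set n := orderOf g with hn
  have hdvd : n ∣ 17971200 := hG ▸ orderOf_dvd_natCard g
  have hnpos : 0 < n := orderOf_pos g
  have transfer : ∀ (S : Subgroup G), (∀ h ∈ S, h ≠ 1 → P h) → ∀ u, u * g * u⁻¹ ∈ S → P g := by
    intro S hS u hu
    have := hconj _ u⁻¹ (hS _ hu fun e => hg1 (conj_eq_one_iff.1 e))
    simpa [mul_assoc] using this
  have nontriv : ∀ (u h : G), h ≠ 1 → u * h * u⁻¹ ≠ 1 := fun u h hh e =>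
    hh (conj_eq_one_iff.1 e)
  have powOrder : ∀ d, d ∣ n → orderOf (g ^ (n / d)) = d := fun d hd =>
    orderOf_pow_orderOf_div hnpos.ne' hd
  have noLine : ∀ (q : ℕ), ¬ q ∣ 6144 → q.Prime → ∀ (h : G) (x : Λ), h ^ q = 1 → h • x = x → h = 1 := by
    intro q hq6 hq h x hh hx
    obtain ⟨u, rfl⟩ := htl x
    by_contra h1
    have hm : u⁻¹ * h * u ∈ MulAction.stabilizer G L₀ := by
      show (u⁻¹ * h * u) • L₀ = L₀
      rw [mul_smul, mul_smul, hx, inv_smul_smul]
    have hd := Subgroup.orderOf_dvd_natCard _ hm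
    haveI : Fact q.Prime := ⟨hq⟩
    have ho : orderOf (u⁻¹ * h * u) = q := by
      have e : u⁻¹ * h * u = MulAut.conj u⁻¹ h := by simp
      rw [e, MulEquiv.orderOf_eq, orderOf_eq_prime hh h1]
    rw [ho, hL] at hd
    exact hq6 hd
  by_cases d13 : 13 ∣ n
  · obtain ⟨k, hk⟩ := d13
    by_cases hk1 : k = 1
    · obtain ⟨u, hu⟩ := conj_into P13 (by norm_num : Nat.Prime 13) (k := 1) (by rw [h13, pow_one])
        (by rw [hG]; norm_num) (i := 1) (g := g) (by rw [pow_one, ← pow_orderOf_eq_one g, ← hn, hk, hk1])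
      exact transfer P13 g13 u hu
    exfalso
    have hl : k.minFac.Prime := Nat.minFac_prime hk1
    set l := k.minFac with hldef
    have hlk : l ∣ k := Nat.minFac_dvd k
    have hh : orderOf (g ^ (n / 13)) = 13 := powOrder 13 ⟨k, hk⟩
    have hc : orderOf (g ^ (n / l)) = l := powOrder l (hk ▸ hlk.mul_left 13)
    have hl13 : l ≠ 13 := fun e => by
      have : 13 * 13 ∣ 17971200 := (Nat.mul_dvd_mul_left 13 (e ▸ hlk)).trans (hk ▸ hdvd)
      norm_num at this
    set h := g ^ (n / 13) with hhdef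
    set c := g ^ (n / l) with hcdef
    have hcomm : h * c = c * h := ((Commute.refl g).pow_pow _ _).eq
    have hh13 : h ^ 13 ^ 1 = 1 := by rw [pow_one, ← hh, pow_orderOf_eq_one]
    have hh1 : h ≠ 1 := fun e => by rw [e, orderOf_one] at hh; omega
    have hc1 : c ≠ 1 := fun e => by rw [e, orderOf_one] at hc; exact hl.one_lt.ne hc
    have hcl : c ^ l ^ 1 = 1 := by rw [pow_one, ← hc, pow_orderOf_eq_one]
    rcases prime_dvd_order hl ((hlk.mul_left 13).trans (hk ▸ hdvd)) with e | e | e | e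
    · obtain ⟨u, hu⟩ := conj_into B Nat.prime_two (k := 11) (by rw [hB]; norm_num) (by rw [hG]; norm_num)
        (i := 1) (g := c) (e ▸ hcl)
      have hm := f2 _ hu (nontriv u c hc1) (by
        rw [← pow_two, conj_pow_eq, ← pow_one 2, ← e, hcl]; group)
      rw [fixNum_conj] at hm
      obtain ⟨x, -, hx⟩ := exists_common (α := Λ) (by norm_num : Nat.Prime 13) hcomm hh13 hm
      exact hh1 (noLine 13 (by norm_num) (by norm_num) h x (by simpa using hh13) hx)
    · obtain ⟨u, hu⟩ := conj_into P3 Nat.prime_three (k := 3) (by rw [h3]; norm_num) (by rw [hG]; norm_num)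
        (i := 1) (g := c) (e ▸ hcl)
      obtain ⟨h1, h2, -⟩ := f3 _ hu (nontriv u c hc1)
      rw [fixNum_conj] at h1 h2
      obtain ⟨x, -, hx⟩ := exists_common (α := Λ) (by norm_num : Nat.Prime 13) hcomm hh13 (by omega)
      exact hh1 (noLine 13 (by norm_num) (by norm_num) h x (by simpa using hh13) hx)
    · obtain ⟨u, hu⟩ := conj_into P5 (by norm_num : Nat.Prime 5) (k := 2) (by rw [h5]; norm_num)
        (by rw [hG]; norm_num) (i := 1) (g := c) (e ▸ hcl)
      obtain ⟨h1, h2⟩ := f5 _ hu (nontriv u c hc1)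
      rw [fixNum_conj] at h1 h2
      obtain ⟨x, -, hx⟩ := exists_common (α := Ω) (by norm_num : Nat.Prime 13) hcomm hh13 (by omega)
      obtain ⟨v, rfl⟩ := htp x
      have hm : v⁻¹ * h * v ∈ MulAction.stabilizer G p₀ := by
        show (v⁻¹ * h * v) • p₀ = p₀
        rw [mul_smul, mul_smul, hx, inv_smul_smul]
      have hd := Subgroup.orderOf_dvd_natCard _ hm
      have ho : orderOf (v⁻¹ * h * v) = 13 := by
        have e : v⁻¹ * h * v = MulAut.conj v⁻¹ h := by simp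
        rw [e, MulEquiv.orderOf_eq, hh]
      rw [ho, hp] at hd
      norm_num at hd
    · exact hl13 e
  by_cases d3 : 3 ∣ n
  · have d9 : ¬ 9 ∣ n := fun d9 => by
      have ho := powOrder 9 d9
      obtain ⟨u, hu⟩ := conj_into P3 Nat.prime_three (k := 3) (by rw [h3]; norm_num) (by rw [hG]; norm_num)
        (i := 2) (g := g ^ (n / 9)) (by
          rw [show (3 : ℕ) ^ 2 = orderOf (g ^ (n / 9)) by rw [ho]; norm_num]; exact pow_orderOf_eq_one _)
      have h1 := e3 _ hu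
      rw [conj_pow_eq, conj_eq_one_iff] at h1
      have := orderOf_dvd_of_pow_eq_one h1
      rw [ho] at this
      norm_num at this
    have d5 : ¬ 5 ∣ n := fun d5 => by
      have h3o := powOrder 3 d3
      have h5o := powOrder 5 d5
      have h5' := pow_orderOf_eq_one (g ^ (n / 5))
      rw [h5o] at h5'
      set c := g ^ (n / 3) with hcdef
      set h := g ^ (n / 5) with hhdef
      obtain ⟨u, hu⟩ := conj_into P3 Nat.prime_three (k := 3) (by rw [h3]; norm_num) (by rw [hG]; norm_num)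
        (i := 1) (g := c) (by rw [pow_one, ← h3o, pow_orderOf_eq_one])
      obtain ⟨-, -, hm⟩ := f3 _ hu (nontriv u c fun e => by rw [e, orderOf_one] at h3o; omega)
      rw [fixNum_conj] at hm
      obtain ⟨x, -, hx⟩ := exists_common (α := Λ) (by norm_num : Nat.Prime 5)
        (((Commute.refl g).pow_pow _ _).eq : h * c = c * h) (i := 1)
        (by rw [pow_one]; exact h5') hm
      have := noLine 5 (by norm_num) (by norm_num) h x h5' hx
      rw [this, orderOf_one] at h5o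
      omega
    obtain ⟨k, hk⟩ := d3
    obtain ⟨i, rfl⟩ := two_pow_of ((hk ▸ dvd_mul_left k 3).trans hdvd)
      (fun e => d9 (hk ▸ Nat.mul_dvd_mul_left 3 e)) (fun e => d5 (hk ▸ e.mul_left 3))
      (fun e => d13 (hk ▸ e.mul_left 3))
    exact mixed_case (α := Λ) (β := Ω) P hconj P3 B L₀ p₀ Nat.prime_three (by norm_num) (k := 3)
      (by rw [h3]; norm_num) (by rw [hG]; norm_num) (fun h hh hne => (f3 h hh hne).2.1) htl
      (by rw [hL, hB]) (by rw [hB]; norm_num) hBL hBp haL ha hap gA hk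
  by_cases d5 : 5 ∣ n
  · have d25 : ¬ 25 ∣ n := fun d25 => by
      have ho := powOrder 25 d25
      obtain ⟨u, hu⟩ := conj_into P5 (by norm_num : Nat.Prime 5) (k := 2) (by rw [h5]; norm_num)
        (by rw [hG]; norm_num) (i := 2) (g := g ^ (n / 25)) (by
          rw [show (5 : ℕ) ^ 2 = orderOf (g ^ (n / 25)) by rw [ho]; norm_num]; exact pow_orderOf_eq_one _)
      have h1 := e5 _ hu
      rw [conj_pow_eq, conj_eq_one_iff] at h1
      have := orderOf_dvd_of_pow_eq_one h1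
      rw [ho] at this
      norm_num at this
    obtain ⟨k, hk⟩ := d5
    obtain ⟨i, rfl⟩ := two_pow_of ((hk ▸ dvd_mul_left k 5).trans hdvd)
      (fun e => d3 (hk ▸ e.mul_left 5)) (fun e => d25 (hk ▸ Nat.mul_dvd_mul_left 5 e))
      (fun e => d13 (hk ▸ e.mul_left 5))
    exact mixed_case (α := Ω) (β := Λ) P hconj P5 B p₀ L₀ (by norm_num : Nat.Prime 5) (by norm_num) (k := 2)
      (by rw [h5]; norm_num) (by rw [hG]; norm_num) (fun h hh hne => (f5 h hh hne).2) htp
      (by rw [hp, hB]) (by rw [hB]; norm_num) hBp hBL hbp hb hbL gB hk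
  obtain ⟨i, hi⟩ := two_pow_of hdvd d3 d5 d13
  obtain ⟨u, hu⟩ := conj_into B Nat.prime_two (k := 11) (by rw [hB]; norm_num) (by rw [hG]; norm_num)
    (i := i) (g := g) (by rw [← hi]; exact pow_orderOf_eq_one g)
  exact transfer B g2 u hu

end CfsgLib.Lie.TitsSquare
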