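import Cfsg.Agent.Lib.Lie.TitsSquare.Defs
import Cfsg.Agent.Lib.Lie.TitsSquare.ChecksOrbits
import Cfsg.Agent.Lib.Lie.TitsSquare.ChecksProd0
import Cfsg.Agent.Lib.Lie.TitsSquare.ChecksProd1
import Cfsg.Agent.Lib.Lie.MultExc.Tits.Action
import Mathlib.GroupTheory.Index

/-!
The actions on points and lines, read from the certificate.
-/

set_option autoImplicit false
set_option maxRecDepth 100000

namespace CfsgLib.Lie.TitsSquare

open Cfsg.Lie CfsgLib.Lie.MultExc.Tits

theorem up_lt (w v i : ℕ) : up w v i < 2 ^ w := by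
  have h : up w v i ≤ 2 ^ w - 1 := Nat.and_le_right
  have := Nat.two_pow_pos w
  omega

theorem genTable_eq (k : ℕ) : genTable k = eltTab k := rfl

theorem shape_spec :
    (∀ i < 1754, pt i < pt (i + 1)) ∧
      (∀ i < 2925, lineA i < lineB i ∧ lineB i < lineC i ∧ lineC i < 1755) ∧
      ∀ i < 2924, up 33 lineTab i < up 33 lineTab (i + 1) := by
  have h := shape_ok
  simp only [shapeChecks, Bool.and_eq_true] at h
  refine ⟨fun i hi => ?_, fun i hi => ?_, fun i hi => ?_⟩
  · simpa using allUpTo_spec h.1.1 i hi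
  · simpa [and_assoc] using allUpTo_spec h.1.2 i hi
  · simpa using allUpTo_spec h.2 i hi

theorem strictMono_of_succ {f : ℕ → ℕ} {n : ℕ} (h : ∀ i < n, f i < f (i + 1)) :
    ∀ {i j : ℕ}, i ≤ n → j ≤ n → f i = f j → i = j := by
  have key : ∀ j ≤ n, ∀ i < j, f i < f j := by
    intro j
    induction j with
    | zero => intro _ i hi; exact absurd hi (Nat.not_lt_zero i)
    | succ j ih =>
      intro hj i hi
      rcases Nat.lt_succ_iff_lt_or_eq.1 hi with h' | rfl
      · exact (ih (by omega) i h').trans (h j (by omega))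
      · exact h i (by omega)
  intro i j hi hj he
  rcases lt_trichotomy i j with h' | h' | h'
  · exact absurd he (key j hj i h').ne
  · exact h'
  · exact absurd he.symm (key i hi j h').ne

theorem pt_inj {i j : ℕ} (hi : i < 1755) (hj : j < 1755) (h : pt i = pt j) : i = j :=
  strictMono_of_succ shape_spec.1 (by omega) (by omega) h

/-- The vector of a point. -/
noncomputable def vec (i : ℕ) : chevF4.Idx → ZMod 2 := vecOf (pt i)

theorem vec_inj {i j : ℕ} (hi : i < 1755) (hj : j < 1755) (h : vec i = vec j) : i = j :=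
  pt_inj hi hj (vecOf_inj (up_lt 52 _ _) (up_lt 52 _ _) h)

/-- The action on vectors. -/
noncomputable def app (g : TG) (v : chevF4.Idx → ZMod 2) : chevF4.Idx → ZMod 2 := (matT g).mulVec v

theorem app_mul (g h : TG) (v : chevF4.Idx → ZMod 2) : app (g * h) v = app g (app h v) := by
  rw [app, app, app, Matrix.mulVec_mulVec]
  simp [matT]

theorem app_one (v : chevF4.Idx → ZMod 2) : app 1 v = v := by simp [app, matT]

theorem app_injective (g : TG) : Function.Injective (app g) := fun v w h => by
  simpa [← app_mul, app_one] using congrArg (app g⁻¹) h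

theorem ev_nil (i : ℕ) : ev [] i = i := rfl

theorem ev_cons (k : ℕ) (w : List ℕ) (i : ℕ) : ev (k :: w) i = at_ k (ev w i) := rfl

theorem ev_append (w w' : List ℕ) (i : ℕ) : ev (w ++ w') i = ev w (ev w' i) := by simp [ev, List.foldr_append]

/-- The element acts on the points as the table says. -/
def Moves (g : TG) (w : List ℕ) : Prop := ∀ i < 1755, ev w i < 1755 ∧ app g (vec i) = vec (ev w i)

theorem prod_spec {k : ℕ} (h2 : 2 ≤ k) (hk : k < permLen) : prodOK k = true := by
  have h : ∀ a n, allUpTo (fun k => prodOK (k + a)) n = true → a ≤ k → k < a + n → prodOK k = true := by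
    intro a n h h1 h2
    have := allUpTo_spec h (k - a) (by omega)
    simpa [Nat.sub_add_cancel h1] using this
  have hk : k < 148 := hk
  rcases lt_or_ge k 22 with c | c
  · exact h _ _ prod_ok_2 h2 (by omega)
  rcases lt_or_ge k 42 with c' | c'
  · exact h _ _ prod_ok_22 c (by omega)
  rcases lt_or_ge k 62 with d | d
  · exact h _ _ prod_ok_42 c' (by omega)
  rcases lt_or_ge k 82 with d' | d'
  · exact h _ _ prod_ok_62 d (by omega)
  rcases lt_or_ge k 102 with e | e
  · exact h _ _ prod_ok_82 d' (by omega)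
  rcases lt_or_ge k 122 with e' | e'
  · exact h _ _ prod_ok_102 e (by omega)
  rcases lt_or_ge k 142 with f | f
  · exact h _ _ prod_ok_122 e' (by omega)
  · exact h _ _ prod_ok_142 f (by omega)

theorem prod_facts {k : ℕ} (h2 : 2 ≤ k) (hk : k < permLen) :
    up 8 opsA k < k ∧ up 8 opsB k < k ∧ ∀ i < 1755, at_ k i = at_ (up 8 opsA k) (at_ (up 8 opsB k) i) := by
  have h := prod_spec h2 hk
  simp only [prodOK, Bool.and_eq_true] at h
  exact ⟨by simpa using h.1.1, by simpa using h.1.2, fun i hi => by simpa using allUpTo_spec h.2 i hi⟩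

theorem exists_move : ∀ k < permLen, ∃ g : TG, Moves g [k] := by
  intro k
  induction k using Nat.strong_induction_on with
  | _ k ih =>
    intro hk
    rcases Nat.lt_or_ge k 2 with h | h
    · obtain ⟨g, hg⟩ := exists_genElt k h
      refine ⟨g, fun i hi => ?_⟩
      have hc : allUpTo (genStepOK k) 1755 = true := by
        rcases (show k = 0 ∨ k = 1 by omega) with rfl | rfl
        · exact gen0_ok
        · exact gen1_ok
      have h := allUpTo_spec hc i hi
      simp only [genStepOK, Bool.and_eq_true, genTable_eq] at h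
      refine ⟨by simpa [ev_cons, ev_nil] using h.1, ?_⟩
      show (matT g).mulVec (vecOf (pt i)) = vecOf (pt (at_ k i))
      rw [acts_spec hg (show pt i < 2 ^ 52 from up_lt 52 _ _), Nat.eq_of_beq_eq_true h.2]
    obtain ⟨ha, hb, hc⟩ := prod_facts h hk
    obtain ⟨A, hA⟩ := ih _ ha (by omega)
    obtain ⟨B, hB⟩ := ih _ hb (by omega)
    refine ⟨A * B, fun i hi => ?_⟩
    obtain ⟨h1, h2⟩ := hB i hi
    obtain ⟨h3, h4⟩ := hA _ h1
    simp only [ev_cons, ev_nil] at h1 h2 h3 h4 ⊢
    rw [hc i hi, app_mul, h2]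
    exact ⟨h3, h4⟩

/-- The listed elements. -/
noncomputable def elem (k : ℕ) : TG := if h : k < permLen then (exists_move k h).choose else 1

theorem elem_moves {k : ℕ} (h : k < permLen) : Moves (elem k) [k] := by
  rw [elem, dif_pos h]
  exact (exists_move k h).choose_spec

/-- The value of a word. -/
noncomputable def evalW (w : List ℕ) : TG := (w.map elem).prod

theorem evalW_nil : evalW [] = 1 := rfl

theorem evalW_cons (k : ℕ) (w : List ℕ) : evalW (k :: w) = elem k * evalW w := by
  simp [evalW, List.map_cons, List.prod_cons]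

theorem evalW_append (w w' : List ℕ) : evalW (w ++ w') = evalW w * evalW w' := by
  simp [evalW, List.map_append, List.prod_append]

theorem wordOK_nil : wordOK [] = true := rfl

theorem wordOK_cons {k : ℕ} {w : List ℕ} : wordOK (k :: w) = true ↔ k < permLen ∧ wordOK w = true := by
  simp [wordOK]

theorem wordOK_append {w w' : List ℕ} : wordOK (w ++ w') = true ↔ wordOK w = true ∧ wordOK w' = true := by
  simp [wordOK]

theorem evalW_moves : ∀ {w : List ℕ}, wordOK w = true → Moves (evalW w) w
  | [], _ => fun i hi => ⟨hi, by rw [evalW_nil, app_one, ev_nil]⟩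
  | k :: w, h => fun i hi => by
    obtain ⟨hk, hw⟩ := wordOK_cons.1 h
    obtain ⟨h1, h2⟩ := evalW_moves hw i hi
    obtain ⟨h3, h4⟩ := elem_moves hk _ h1
    rw [evalW_cons, app_mul, h2, ev_cons]
    exact ⟨h3, h4⟩

theorem base_spec : ∀ b ∈ basePts, b < 1755 := by decide +kernel

theorem base_lt (j : Fin 4) : basePts.getD j 0 < 1755 := by
  revert j
  decide +kernel

/-- The images of the chosen points. -/
noncomputable def key (g : TG) : Fin 4 → chevF4.Idx → ZMod 2 := fun j => app g (vec (basePts.getD j 0))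

theorem key_mul (g h : TG) (j : Fin 4) : key (g * h) j = app g (key h j) := app_mul g h _

theorem levelOK_spec {fixed : List ℕ} {c : ℕ} : ∀ {L : List (List ℕ)} {m : ℕ}, levelOK fixed c m L = true →
    (∀ w ∈ L, wordOK w = true ∧ (∀ d ∈ fixed, ev w d = d) ∧ m ≤ ev w c) ∧
      L.Pairwise fun u v => ev u c < ev v c
  | [], _, _ => ⟨fun w hw => absurd hw (List.not_mem_nil), List.Pairwise.nil⟩
  | w :: ws, m, h => by
    simp only [levelOK, Bool.and_eq_true, List.all_eq_true] at h
    obtain ⟨⟨⟨h1, h2⟩, h3⟩, h4⟩ := h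
    have h3 : m ≤ ev w c := by
      have := Nat.le_of_ble_eq_true h3
      omega
    obtain ⟨i1, i2⟩ := levelOK_spec h4
    refine ⟨fun u hu => ?_, List.pairwise_cons.2 ⟨fun v hv => ?_, i2⟩⟩
    · rcases List.mem_cons.1 hu with rfl | hu
      · exact ⟨h1, fun d hd => Nat.eq_of_beq_eq_true (h2 d hd), h3⟩
      · obtain ⟨a, b, e⟩ := i1 u hu
        exact ⟨a, b, by omega⟩
    · have := (i1 v hv).2.2
      omega

theorem inj_step {ι κ : Type*} (A : ι → TG) (B : κ → TG) (j : Fin 4) (hA : Function.Injective fun i => key (A i) j)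
    (hB : ∀ k, key (B k) j = key 1 j) (hBi : Function.Injective fun k => key (B k)) :
    Function.Injective fun t : ι × κ => key (A t.1 * B t.2) := by
  rintro ⟨i, k⟩ ⟨i', k'⟩ h
  have e : ∀ i k, key (A i * B k) j = key (A i) j := fun i k => by
    rw [key_mul, hB, ← key_mul, mul_one]
  obtain rfl : i = i' := hA (by
    have := congrFun h j
    simp only [e] at this
    exact this)
  obtain rfl : k = k' := hBi (funext fun l => app_injective (A i) (by
    have := congrFun h l
    simp only [key_mul] at this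
    exact this))
  rfl

theorem chain_spec : level1.length = 10 ∧ level2.length = 512 ∧ level3.length = 2 ∧
    levelOK (basePts.take 1) (basePts.getD 1 0) 0 level1 = true ∧
    levelOK (basePts.take 2) (basePts.getD 2 0) 0 level2 = true ∧
    levelOK (basePts.take 3) (basePts.getD 3 0) 0 level3 = true := by
  have h := chain_ok
  simp only [chainChecks, Bool.and_eq_true] at h
  obtain ⟨⟨⟨⟨⟨h1, h2⟩, h3⟩, h4⟩, h5⟩, h6⟩ := h
  exact ⟨Nat.eq_of_beq_eq_true h1, Nat.eq_of_beq_eq_true h2, Nat.eq_of_beq_eq_true h3, h4, h5, h6⟩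

theorem level_props {L : List (List ℕ)} {fixed : List ℕ} {j : Fin 4}
    (h : levelOK fixed (basePts.getD j 0) 0 L = true) (hfix : ∀ d ∈ fixed, d < 1755) :
    (Function.Injective fun t : Fin L.length => key (evalW L[t.1]) j) ∧
      ∀ (t : Fin L.length) (i : Fin 4), basePts.getD i 0 ∈ fixed → key (evalW L[t.1]) i = key 1 i := by
  obtain ⟨h1, h2⟩ := levelOK_spec h
  refine ⟨fun s t e => ?_, fun t i hi => ?_⟩
  · obtain ⟨a, b⟩ := evalW_moves (h1 _ (List.getElem_mem s.2)).1 _ (base_lt j)
    obtain ⟨c, d⟩ := evalW_moves (h1 _ (List.getElem_mem t.2)).1 _ (base_lt j)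
    simp only [key] at e
    rw [b, d] at e
    have e' := vec_inj a c e
    rcases lt_trichotomy s.1 t.1 with l | l | l
    · exact absurd e' (List.pairwise_iff_getElem.1 h2 _ _ s.2 t.2 l).ne
    · exact Fin.ext l
    · exact absurd e'.symm (List.pairwise_iff_getElem.1 h2 _ _ t.2 s.2 l).ne
  · obtain ⟨a, b⟩ := evalW_moves (h1 _ (List.getElem_mem t.2)).1 _ (hfix _ hi)
    simp only [key]
    rw [b, (h1 _ (List.getElem_mem t.2)).2.1 _ hi, app_one]

theorem trans_spec {c : ℕ} (hc : c < 1755) : wordOK (transWord c) = true ∧ ev (transWord c) p0 = c := by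
  have h := trans_ok
  simp only [transChecks, Bool.and_eq_true] at h
  have := allUpTo_spec h.1 c hc
  simp only [Bool.and_eq_true] at this
  exact ⟨this.1, Nat.eq_of_beq_eq_true this.2⟩

/-- The words of all elements. -/
noncomputable def wordAt (t : Fin 1755 × Fin level1.length × Fin level2.length × Fin level3.length) : List ℕ :=
  transWord t.1 ++ (level1[t.2.1.1] ++ (level2[t.2.2.1.1] ++ level3[t.2.2.2.1]))

theorem wordAt_ok (t : Fin 1755 × Fin level1.length × Fin level2.length × Fin level3.length) :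
    wordOK (wordAt t) = true := by
  obtain ⟨-, -, -, h1, h2, h3⟩ := chain_spec
  simp only [wordAt, wordOK_append]
  exact ⟨(trans_spec t.1.2).1, ((levelOK_spec h1).1 _ (List.getElem_mem t.2.1.2)).1,
    ((levelOK_spec h2).1 _ (List.getElem_mem t.2.2.1.2)).1, ((levelOK_spec h3).1 _ (List.getElem_mem t.2.2.2.2)).1⟩

theorem key_wordAt_injective : Function.Injective fun t => key (evalW (wordAt t)) := by
  obtain ⟨-, -, -, h1, h2, h3⟩ := chain_spec
  have hf : ∀ n, ∀ d ∈ basePts.take n, d < 1755 := fun n d hd => base_spec d (List.mem_of_mem_take hd)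
  obtain ⟨a1, b1⟩ := level_props (j := (1 : Fin 4)) h1 (hf 1)
  obtain ⟨a2, b2⟩ := level_props (j := (2 : Fin 4)) h2 (hf 2)
  obtain ⟨a3, b3⟩ := level_props (j := (3 : Fin 4)) h3 (hf 3)
  have s3 : Function.Injective fun t : Fin level3.length => key (evalW level3[t.1]) :=
    fun s t e => a3 (congrFun e 3)
  have m : ∀ (i : Fin 4) (n : ℕ), (i : ℕ) < n → n ≤ 3 → basePts.getD i 0 ∈ basePts.take n := by
    intro i n hin hn
    have h : ∀ (i n : Fin 4), (i : ℕ) < (n : ℕ) → basePts.getD i 0 ∈ basePts.take n := by decide +kernel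
    exact h i ⟨n, by omega⟩ hin
  have s2 := inj_step (fun t : Fin level2.length => evalW level2[t.1])
    (fun t : Fin level3.length => evalW level3[t.1]) 2 a2 (fun t => b3 t 2 (m 2 3 (by decide) le_rfl)) s3
  have s1 := inj_step (fun t : Fin level1.length => evalW level1[t.1])
    (fun t : Fin level2.length × Fin level3.length => evalW level2[t.1.1] * evalW level3[t.2.1]) 1 a1
    (fun t => by
      rw [key_mul, b3 t.2 1 (m 1 3 (by decide) le_rfl), ← key_mul, mul_one]
      exact b2 t.1 1 (m 1 2 (by decide) (by decide))) s2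
  have a0 : Function.Injective fun c : Fin 1755 => key (evalW (transWord c.1)) 0 := fun c d e => by
    have e0 : basePts.getD ((0 : Fin 4) : ℕ) 0 = p0 := by decide +kernel
    have hp : p0 < 1755 := by decide +kernel
    obtain ⟨hc, hc'⟩ := trans_spec c.2
    obtain ⟨hd, hd'⟩ := trans_spec d.2
    simp only [key, e0] at e
    rw [(evalW_moves hc _ hp).2, (evalW_moves hd _ hp).2, hc', hd'] at e
    exact Fin.ext (vec_inj c.2 d.2 e)
  have s0 := inj_step (fun c : Fin 1755 => evalW (transWord c.1))
    (fun t : Fin level1.length × Fin level2.length × Fin level3.length =>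
      evalW level1[t.1.1] * (evalW level2[t.2.1.1] * evalW level3[t.2.2.1])) 0 a0
    (fun t => by
      rw [key_mul, key_mul, b3 t.2.2 0 (m 0 3 (by decide) le_rfl), ← key_mul, mul_one,
        b2 t.2.1 0 (m 0 2 (by decide) (by decide)), ← key_mul, mul_one]
      exact b1 t.1 0 (m 0 1 (by decide) (by decide))) s1
  intro s t e
  exact s0 (by simpa only [wordAt, evalW_append] using e)

theorem wordAt_bijective : Function.Bijective fun t => evalW (wordAt t) := by
  haveI := finite_TG
  obtain ⟨h1, h2, h3, -⟩ := chain_spec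
  refine (Nat.bijective_iff_injective_and_card _).2 ⟨fun s t e => key_wordAt_injective (congrArg key e), ?_⟩
  rw [card_TG, Nat.card_prod, Nat.card_prod, Nat.card_prod, Nat.card_fin, Nat.card_fin, Nat.card_fin, Nat.card_fin,
    h1, h2, h3]

theorem exists_word (g : TG) : ∃ w, wordOK w = true ∧ evalW w = g := by
  obtain ⟨t, ht⟩ := wordAt_bijective.2 g
  exact ⟨_, wordAt_ok t, ht⟩

theorem key_injective : Function.Injective key := fun g h e => by
  obtain ⟨s, rfl⟩ := wordAt_bijective.2 g
  obtain ⟨t, rfl⟩ := wordAt_bijective.2 h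
  simp only at e ⊢
  rw [key_wordAt_injective e]

theorem code_eq (w : List ℕ) : code w = (((0 * 2048 + ev w (basePts.getD 0 0)) * 2048 + ev w (basePts.getD 1 0)) *
    2048 + ev w (basePts.getD 2 0)) * 2048 + ev w (basePts.getD 3 0) := rfl

/-- Words with the same code name the same element. -/
theorem eq_of_code {w w' : List ℕ} (h : wordOK w = true) (h' : wordOK w' = true) (e : code w = code w') :
    evalW w = evalW w' := by
  refine key_injective (funext fun j => ?_)
  simp only [key]
  rw [(evalW_moves h _ (base_lt j)).2, (evalW_moves h' _ (base_lt j)).2]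
  have b : ∀ (v : List ℕ), wordOK v = true → ∀ i : Fin 4, ev v (basePts.getD i 0) < 2048 := fun v hv i =>
    lt_trans (evalW_moves hv _ (base_lt i)).1 (by norm_num)
  have := b w h 0; have := b w h 1; have := b w h 2; have := b w h 3
  have := b w' h' 0; have := b w' h' 1; have := b w' h' 2; have := b w' h' 3
  rw [code_eq, code_eq] at e
  congr 1
  fin_cases j <;> simp only [] at * <;> simp at * <;> omega

theorem code_of_eq {w w' : List ℕ} (h : wordOK w = true) (h' : wordOK w' = true) (e : evalW w = evalW w') :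
    code w = code w' := by
  have q : ∀ i : Fin 4, ev w (basePts.getD i 0) = ev w' (basePts.getD i 0) := fun i =>
    vec_inj (evalW_moves h _ (base_lt i)).1 (evalW_moves h' _ (base_lt i)).1
      (by rw [← (evalW_moves h _ (base_lt i)).2, ← (evalW_moves h' _ (base_lt i)).2, e])
  have := q 0; have := q 1; have := q 2; have := q 3
  simp only [code_eq] at *
  simp_all

/-- The points. -/
abbrev Pt : Type := Fin 1755

theorem exists_img (g : TG) (i : Pt) : ∃ j : Pt, app g (vec i) = vec j := by
  obtain ⟨w, hw, rfl⟩ := exists_word g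
  obtain ⟨h1, h2⟩ := evalW_moves hw i i.2
  exact ⟨⟨_, h1⟩, h2⟩

theorem img_eq {g : TG} {i j : Pt} (h : app g (vec i) = vec j) : (exists_img g i).choose = j :=
  Fin.ext (vec_inj (exists_img g i).choose.2 j.2 (((exists_img g i).choose_spec).symm.trans h))

/-- The action on points. -/
noncomputable instance ptAction : MulAction TG Pt where
  smul g i := (exists_img g i).choose
  one_smul i := img_eq (app_one _)
  mul_smul g h i := img_eq (by
    rw [app_mul, (exists_img h i).choose_spec]
    exact (exists_img g _).choose_spec)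

theorem smul_val {w : List ℕ} (hw : wordOK w = true) (i : Pt) : ((evalW w • i : Pt) : ℕ) = ev w i := by
  obtain ⟨h1, h2⟩ := evalW_moves hw i i.2
  exact congrArg Fin.val (img_eq (j := ⟨_, h1⟩) h2)

theorem ext_smul {g h : TG} (e : ∀ i : Pt, g • i = h • i) : g = h := key_injective (funext fun j => by
  have h1 : ∀ g : TG, key g j = vec ((g • (⟨_, base_lt j⟩ : Pt) : Pt) : ℕ) := fun g =>
    (exists_img g ⟨_, base_lt j⟩).choose_spec
  rw [h1, h1, e])

/-- The lines. -/
abbrev Ln : Type := Fin 2925

/-- The first point of a line. -/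
noncomputable def pA (l : Ln) : Pt :=
  ⟨lineA l, by obtain ⟨a, b, c⟩ := shape_spec.2.1 l l.2; omega⟩

/-- The second point of a line. -/
noncomputable def pB (l : Ln) : Pt :=
  ⟨lineB l, by obtain ⟨a, b, c⟩ := shape_spec.2.1 l l.2; omega⟩

/-- The third point of a line. -/
noncomputable def pC (l : Ln) : Pt :=
  ⟨lineC l, by obtain ⟨a, b, c⟩ := shape_spec.2.1 l l.2; omega⟩

/-- The points of a line. -/
noncomputable def lineSet (l : Ln) : Finset Pt := {pA l, pB l, pC l}

theorem mem_lineSet {l : Ln} {c : Pt} : c ∈ lineSet l ↔ onLine l c = true := by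
  simp [lineSet, onLine, pA, pB, pC, Fin.ext_iff, or_assoc]

theorem card_lineSet (l : Ln) : (lineSet l).card = 3 := by
  obtain ⟨a, b, c⟩ := shape_spec.2.1 l l.2
  refine Finset.card_eq_three.2 ⟨pA l, pB l, pC l, ?_, ?_, ?_, rfl⟩ <;>
    simp only [pA, pB, pC, ne_eq, Fin.ext_iff] <;> omega

theorem lineSet_inj {l m : Ln} (h : lineSet l = lineSet m) : l = m := by
  obtain ⟨a, b, c⟩ := shape_spec.2.1 l l.2
  obtain ⟨a', b', c'⟩ := shape_spec.2.1 m m.2
  have ha := (Finset.ext_iff.1 h (pA l)).1 (by simp [lineSet])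
  have hb := (Finset.ext_iff.1 h (pB l)).1 (by simp [lineSet])
  have hc := (Finset.ext_iff.1 h (pC l)).1 (by simp [lineSet])
  simp only [lineSet, Finset.mem_insert, Finset.mem_singleton, pA, pB, pC, Fin.ext_iff] at ha hb hc
  have eA : lineA l = lineA m := by omega
  have eB : lineB l = lineB m := by omega
  have eC : lineC l = lineC m := by omega
  refine Fin.ext (strictMono_of_succ shape_spec.2.2 (by omega) (by omega) ?_)
  have dec3 : ∀ v : ℕ, v < 2 ^ 33 → v = up 11 v 2 * 2 ^ 22 + up 11 v 1 * 2 ^ 11 + up 11 v 0 := by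
    intro v hv
    simp only [up, Nat.shiftRight_eq_div_pow, Nat.and_two_pow_sub_one_eq_mod]
    omega
  rw [dec3 _ (up_lt 33 _ l), dec3 _ (up_lt 33 _ m)]
  change lineA l * _ + lineB l * _ + lineC l = lineA m * _ + lineB m * _ + lineC m
  rw [eA, eB, eC]

theorem mapsLine_iff {w : List ℕ} (hw : wordOK w = true) (l m : Ln) :
    mapsLine (ev w) l m = true ↔ (lineSet l).image (fun c => evalW w • c) = lineSet m := by
  have hA : ev w (lineA l) = ((evalW w • pA l : Pt) : ℕ) := (smul_val hw (pA l)).symm
  have hB : ev w (lineB l) = ((evalW w • pB l : Pt) : ℕ) := (smul_val hw (pB l)).symm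
  have hC : ev w (lineC l) = ((evalW w • pC l : Pt) : ℕ) := (smul_val hw (pC l)).symm
  rw [mapsLine, Bool.and_eq_true, Bool.and_eq_true, hA, hB, hC, ← mem_lineSet, ← mem_lineSet, ← mem_lineSet]
  constructor
  · rintro ⟨⟨a, b⟩, c⟩
    refine Finset.eq_of_subset_of_card_le (fun x hx => ?_)
      (by rw [Finset.card_image_of_injective _ (MulAction.injective _), card_lineSet, card_lineSet])
    simp only [lineSet, Finset.mem_image, Finset.mem_insert, Finset.mem_singleton] at hx
    obtain ⟨y, rfl | rfl | rfl, rfl⟩ := hx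
    exacts [a, b, c]
  · intro h
    rw [← h]
    refine ⟨⟨?_, ?_⟩, ?_⟩ <;> refine Finset.mem_image_of_mem _ ?_ <;> simp [lineSet]

theorem elem_mul {k : ℕ} (h2 : 2 ≤ k) (hk : k < permLen) : elem k = elem (up 8 opsA k) * elem (up 8 opsB k) := by
  obtain ⟨ha, hb, hc⟩ := prod_facts h2 hk
  have o1 : wordOK [k] = true := wordOK_cons.2 ⟨hk, rfl⟩
  have o2 : wordOK [up 8 opsA k, up 8 opsB k] = true :=
    wordOK_cons.2 ⟨by omega, wordOK_cons.2 ⟨by omega, rfl⟩⟩
  have e : evalW [k] = evalW [up 8 opsA k, up 8 opsB k] := ext_smul fun i => Fin.ext (by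
    rw [smul_val o1, smul_val o2, ev_cons, ev_cons, ev_cons, ev_nil, hc i i.2])
  simpa [evalW] using e

theorem elem_line : ∀ k < permLen, ∀ l : Ln, ∃ m : Ln, (lineSet l).image (fun c => elem k • c) = lineSet m := by
  intro k
  induction k using Nat.strong_induction_on with
  | _ k ih =>
    intro hk l
    rcases Nat.lt_or_ge k 2 with h | h
    · have o : wordOK [k] = true := wordOK_cons.2 ⟨hk, rfl⟩
      have hc := allUpTo_spec line_ok l l.2
      simp only [Bool.and_eq_true, Nat.ble_eq, Nat.blt] at hc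
      have e : ∀ m : Ln, mapsLine (at_ k) l m = true → (lineSet l).image (fun c => elem k • c) = lineSet m :=
        fun m hm => by
          have := (mapsLine_iff o l m).1 (by exact hm)
          simpa [evalW] using this
      rcases (show k = 0 ∨ k = 1 by omega) with rfl | rfl
      · exact ⟨⟨_, hc.1.1⟩, e _ hc.1.2⟩
      · exact ⟨⟨_, hc.2.1⟩, e _ hc.2.2⟩
    obtain ⟨ha, hb, -⟩ := prod_facts h hk
    obtain ⟨m, hm⟩ := ih _ hb (by omega) l
    obtain ⟨m', hm'⟩ := ih _ ha (by omega) m
    refine ⟨m', ?_⟩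
    rw [← hm', ← hm, Finset.image_image, elem_mul h hk]
    simp only [Function.comp_def, mul_smul]

theorem exists_lineImg (g : TG) (l : Ln) : ∃ m : Ln, (lineSet l).image (fun c => g • c) = lineSet m := by
  obtain ⟨w, hw, rfl⟩ := exists_word g
  induction w with
  | nil => exact ⟨l, by simp [evalW_nil]⟩
  | cons k w ih =>
    obtain ⟨hk, hw'⟩ := wordOK_cons.1 hw
    obtain ⟨m, hm⟩ := ih hw'
    obtain ⟨m', hm'⟩ := elem_line k hk m
    refine ⟨m', ?_⟩
    rw [← hm', ← hm, Finset.image_image, evalW_cons]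
    simp only [Function.comp_def, mul_smul]

theorem lineImg_eq {g : TG} {l m : Ln} (h : (lineSet l).image (fun c => g • c) = lineSet m) :
    (exists_lineImg g l).choose = m :=
  lineSet_inj ((exists_lineImg g l).choose_spec.symm.trans h)

/-- The action on lines. -/
noncomputable instance lnAction : MulAction TG Ln where
  smul g l := (exists_lineImg g l).choose
  one_smul l := lineImg_eq (by simp)
  mul_smul g h l := lineImg_eq (by
    refine Eq.trans ?_ (exists_lineImg g _).choose_spec
    show _ = Finset.image _ (lineSet (exists_lineImg h l).choose)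
    rw [← (exists_lineImg h l).choose_spec, Finset.image_image]
    simp only [Function.comp_def, mul_smul])

theorem smul_line {w : List ℕ} (hw : wordOK w = true) (l m : Ln) :
    evalW w • l = m ↔ mapsLine (ev w) l m = true := by
  rw [mapsLine_iff hw]
  exact ⟨fun h => h ▸ (exists_lineImg _ l).choose_spec, lineImg_eq⟩

/-- The first point. -/
noncomputable def pt0 : Pt := ⟨p0, by decide +kernel⟩

/-- The first line. -/
noncomputable def ln0 : Ln := ⟨l0, by decide +kernel⟩

theorem trans_pt (c : Pt) : ∃ u : TG, u • pt0 = c := by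
  obtain ⟨h1, h2⟩ := trans_spec c.2
  exact ⟨evalW (transWord c), Fin.ext ((smul_val h1 pt0).trans h2)⟩

theorem trans_ln (l : Ln) : ∃ u : TG, u • ln0 = l := by
  have h := trans_ok
  simp only [transChecks, Bool.and_eq_true] at h
  have h' := allUpTo_spec h.2 l l.2
  simp only [Bool.and_eq_true] at h'
  exact ⟨evalW (lineTransWord l), (smul_line h'.1 _ _).2 h'.2⟩

theorem card_stabilizer_pt0 : Nat.card (MulAction.stabilizer TG pt0) = 10240 := by
  haveI := finite_TG
  haveI : MulAction.IsPretransitive TG Pt := ⟨fun x y => by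
    obtain ⟨u, rfl⟩ := trans_pt x
    obtain ⟨v, rfl⟩ := trans_pt y
    exact ⟨v * u⁻¹, by rw [mul_smul, inv_smul_smul]⟩⟩
  have h := Subgroup.card_mul_index (MulAction.stabilizer TG pt0)
  rw [MulAction.index_stabilizer_of_transitive, card_TG, Nat.card_fin] at h
  omega

theorem card_stabilizer_ln0 : Nat.card (MulAction.stabilizer TG ln0) = 6144 := by
  haveI := finite_TG
  haveI : MulAction.IsPretransitive TG Ln := ⟨fun x y => by
    obtain ⟨u, rfl⟩ := trans_ln x
    obtain ⟨v, rfl⟩ := trans_ln y
    exact ⟨v * u⁻¹, by rw [mul_smul, inv_smul_smul]⟩⟩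
  have h := Subgroup.card_mul_index (MulAction.stabilizer TG ln0)
  rw [MulAction.index_stabilizer_of_transitive, card_TG, Nat.card_fin] at h
  omega

end CfsgLib.Lie.TitsSquare
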