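import Cfsg.Agent.Lib.Lie.TitsSquare.Group
import Cfsg.Agent.Lib.Lie.TitsSquare.Model
import Cfsg.Agent.Lib.Lie.TitsSquare.ChecksSylow
import Cfsg.Agent.Lib.Lie.TitsSquare.ChecksWit

/-!
Every nonidentity element of the Tits group is a product of two conjugates of one element of order
thirteen.
-/

set_option autoImplicit false
set_option maxRecDepth 100000

namespace CfsgLib.Lie.TitsSquare

open Cfsg.Lie CfsgLib.Lie.MultExc.Tits

/-- The element of order thirteen. -/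
noncomputable def xElt : TG := evalW xWord

/-- A product of two conjugates of the chosen element. -/
def IsSquare' (g : TG) : Prop := ∃ u v : TG, g = (u * xElt * u⁻¹) * (v * xElt * v⁻¹)

theorem isSquare_conj (g w : TG) (h : IsSquare' g) : IsSquare' (w * g * w⁻¹) := by
  obtain ⟨u, v, rfl⟩ := h
  exact ⟨w * u, w * v, by simp [mul_assoc]⟩

theorem evalW_one_iff {w : List ℕ} (hw : wordOK w = true) : evalW w = 1 ↔ Nat.beq (code w) (code []) = true := by
  rw [← evalW_nil, Nat.beq_eq]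
  exact ⟨code_of_eq hw rfl, eq_of_code hw rfl⟩

theorem evalW_wordPow (w : List ℕ) : ∀ n, evalW (wordPow w n) = evalW w ^ n
  | 0 => by rw [wordPow, evalW_nil, pow_zero]
  | n + 1 => by rw [wordPow, evalW_append, evalW_wordPow w n, pow_succ]

theorem wordOK_wordPow {w : List ℕ} (hw : wordOK w = true) : ∀ n, wordOK (wordPow w n) = true
  | 0 => rfl
  | n + 1 => by rw [wordPow, wordOK_append]; exact ⟨wordOK_wordPow hw n, hw⟩

theorem elem_facts : wordOK xWord = true ∧ wordOK aWord = true ∧ wordOK bWord = true ∧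
    wordOK sylowGens = true ∧ xElt ≠ 1 ∧ xElt ^ 13 = 1 ∧ evalW aWord ^ 3 = 1 ∧ evalW aWord • ln0 = ln0 ∧
    evalW aWord • pt0 ≠ pt0 ∧ evalW bWord ^ 5 = 1 ∧ evalW bWord • pt0 = pt0 ∧ evalW bWord • ln0 ≠ ln0 := by
  have h := elem_ok
  simp only [elementChecks, Bool.and_eq_true, Bool.not_eq_true'] at h
  obtain ⟨⟨⟨⟨⟨⟨⟨⟨⟨⟨⟨hx, ha⟩, hb⟩, hs⟩, h1⟩, h2⟩, h3⟩, h4⟩, h5⟩, h6⟩, h7⟩, h8⟩ := h
  refine ⟨hx, ha, hb, hs, fun e => ?_, ?_, ?_, (smul_line ha _ _).2 h4, fun e => ?_, ?_, ?_, fun e => ?_⟩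
  · rw [xElt, evalW_one_iff hx, h1] at e
    exact Bool.false_ne_true e
  · rw [xElt, ← evalW_wordPow, evalW_one_iff (wordOK_wordPow hx _)]; exact h2
  · rw [← evalW_wordPow, evalW_one_iff (wordOK_wordPow ha _)]; exact h3
  · have := (smul_val ha pt0).symm.trans (congrArg Fin.val e)
    simp [pt0] at this
    rw [this] at h5
    simp at h5
  · rw [← evalW_wordPow, evalW_one_iff (wordOK_wordPow hb _)]; exact h6
  · exact Fin.ext ((smul_val hb pt0).trans (Nat.eq_of_beq_eq_true h7))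
  · rw [smul_line hb] at e
    change mapsLine (ev bWord) l0 l0 = true at e
    rw [h8] at e
    exact Bool.false_ne_true e

theorem sylowGens_ok {s : ℕ} (hs : s < 11) : wordOK [sylowGens.getD s 0] = true := by
  have h := elem_facts.2.2.2.1
  have hl : sylowGens.length = 11 := by decide +kernel
  rw [List.getD_eq_getElem _ _ (by omega), wordOK_cons]
  simp only [wordOK, List.all_eq_true] at h
  exact ⟨by simpa using h _ (List.getElem_mem _), rfl⟩

theorem witOK_spec {t : Wit} {w : List ℕ} (hw : wordOK w = true) (h : witOK t w = true) : IsSquare' (evalW w) := by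
  obtain ⟨u, ui, v, vi⟩ := t
  simp only [witOK, Bool.and_eq_true] at h
  obtain ⟨⟨⟨⟨⟨⟨hu, hui⟩, hv⟩, hvi⟩, h1⟩, h2⟩, h3⟩ := h
  have hx := elem_facts.1
  have e1 : (evalW u)⁻¹ = evalW ui := by
    refine inv_eq_of_mul_eq_one_right ?_
    rw [← evalW_append, evalW_one_iff (wordOK_append.2 ⟨hu, hui⟩)]; exact h1
  have e2 : (evalW v)⁻¹ = evalW vi := by
    refine inv_eq_of_mul_eq_one_right ?_
    rw [← evalW_append, evalW_one_iff (wordOK_append.2 ⟨hv, hvi⟩)]; exact h2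
  refine ⟨evalW u, evalW v, ?_⟩
  rw [e1, e2, xElt, ← eq_of_code (by simp only [wordOK_append]; exact ⟨⟨⟨hu, hx⟩, hui⟩, ⟨hv, hx⟩, hvi⟩) hw
    (Nat.eq_of_beq_eq_true h3)]
  simp only [evalW_append, mul_assoc]

theorem bt_facts {i : ℕ} (hi : i < 2048) : wordOK (bw i) = true ∧ up 4 genTab i < 11 ∧ code (bw i) = btCode i ∧
    evalW (bw i) • pt0 = pt0 ∧ evalW (bw i) • ln0 = ln0 := by
  have h := btList_ok
  simp only [btListChecks, Bool.and_eq_true] at h
  have h' := allUpTo_spec h.1 i hi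
  simp only [Bool.and_eq_true] at h'
  obtain ⟨⟨⟨⟨h1, h2⟩, h3⟩, h4⟩, h5⟩ := h'
  exact ⟨h1, by simpa using h2, Nat.eq_of_beq_eq_true h3,
    Fin.ext ((smul_val h1 pt0).trans (Nat.eq_of_beq_eq_true h4)), (smul_line h1 _ _).2 h5⟩

theorem btCode_inj : ∀ {i j : ℕ}, i < 2048 → j < 2048 → btCode i = btCode j → i = j := by
  have h := btList_ok
  simp only [btListChecks, Bool.and_eq_true] at h
  have hs : ∀ j < 2047, btCode (up 11 ordTab j) < btCode (up 11 ordTab (j + 1)) := fun j hj => by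
    simpa using allUpTo_spec h.2 j hj
  let f : Fin 2048 → Fin 2048 := fun j => ⟨up 11 ordTab j, up_lt 11 _ _⟩
  have hf : Function.Injective f := fun a b e =>
    Fin.ext (strictMono_of_succ (f := fun j => btCode (up 11 ordTab j)) hs (by omega) (by omega)
      (congrArg (fun x : Fin 2048 => btCode x) e))
  intro i j hi hj e
  obtain ⟨a, ha⟩ := (Finite.injective_iff_surjective.1 hf) ⟨i, hi⟩
  obtain ⟨b, hb⟩ := (Finite.injective_iff_surjective.1 hf) ⟨j, hj⟩
  have ha' : up 11 ordTab a = i := congrArg Fin.val ha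
  have hb' : up 11 ordTab b = j := congrArg Fin.val hb
  rw [← ha', ← hb'] at e
  rw [← ha', ← hb', strictMono_of_succ (f := fun j => btCode (up 11 ordTab j)) hs (by omega) (by omega) e]

theorem bt_next {s i : ℕ} (hs : s < 11) (hi : i < 2048) :
    ∃ j < 2048, evalW (sylowGens.getD s 0 :: bw i) = evalW (bw j) := by
  have h := allUpTo_spec btNext_ok s hs
  have h' := Nat.eq_of_beq_eq_true (allUpTo_spec h i hi)
  refine ⟨_, up_lt 11 (nextTabs.getD s 0) i, eq_of_code ?_ (bt_facts (up_lt 11 _ i)).1 ?_⟩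
  · rw [wordOK_cons]
    exact ⟨(wordOK_cons.1 (sylowGens_ok hs)).1, (bt_facts hi).1⟩
  · rw [h', (bt_facts (up_lt 11 _ i)).2.2.1]

theorem btWord_closed : ∀ (f i j : ℕ), i < 2048 → j < 2048 →
    ∃ k < 2048, evalW (btWord f i) * evalW (bw j) = evalW (bw k)
  | 0, i, j, _, hj => ⟨j, hj, by rw [btWord, evalW_nil, one_mul]⟩
  | f + 1, i, j, hi, hj => by
    rw [btWord]
    cases Nat.beq i 0
    · obtain ⟨k, hk, e⟩ := btWord_closed f (up 11 parTab i) j (up_lt 11 _ i) hj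
      obtain ⟨m, hm, e'⟩ := bt_next (bt_facts hi).2.1 hk
      refine ⟨m, hm, ?_⟩
      rw [cond_false, evalW_cons, mul_assoc, e, ← e', evalW_cons]
    · exact ⟨j, hj, by rw [cond_true, evalW_nil, one_mul]⟩

theorem subgroup_of_closed {G : Type*} [Group G] [Finite G] (S : Set G) (h1 : (1 : G) ∈ S)
    (hm : ∀ a ∈ S, ∀ b ∈ S, a * b ∈ S) : ∃ H : Subgroup G, (H : Set G) = S := by
  refine ⟨{ carrier := S, one_mem' := h1, mul_mem' := fun ha hb => hm _ ha _ hb, inv_mem' := fun {a} ha => ?_ }, rfl⟩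
  have hp : ∀ n : ℕ, a ^ n ∈ S := by
    intro n
    induction n with
    | zero => rwa [pow_zero]
    | succ n ih => rw [pow_succ]; exact hm _ ih _ ha
  have h : a⁻¹ = a ^ (orderOf a - 1) := by
    refine inv_eq_of_mul_eq_one_right ?_
    rw [← pow_succ', Nat.sub_add_cancel (orderOf_pos a), pow_orderOf_eq_one]
  exact h ▸ hp _

/-- The listed elements form a Sylow subgroup for two. -/
theorem exists_bt : ∃ B : Subgroup TG, Nat.card B = 2048 ∧ ∀ g : TG, g ∈ B ↔ ∃ i < 2048, g = evalW (bw i) := by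
  haveI := finite_TG
  obtain ⟨B, hB⟩ := subgroup_of_closed {g : TG | ∃ i < 2048, g = evalW (bw i)}
    ⟨0, by norm_num, by
      have : bw 0 = [] := by decide +kernel
      rw [this, evalW_nil]⟩
    (by
      rintro a ⟨i, hi, rfl⟩ b ⟨j, hj, rfl⟩
      exact btWord_closed 12 i j hi hj)
  have hmem : ∀ g : TG, g ∈ B ↔ ∃ i < 2048, g = evalW (bw i) := fun g => by
    rw [← SetLike.mem_coe, hB]; rfl
  refine ⟨B, ?_, hmem⟩
  let f : Fin 2048 → B := fun i => ⟨evalW (bw i), (hmem _).2 ⟨i, i.2, rfl⟩⟩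
  have hf : Function.Bijective f := by
    refine ⟨fun i j e => Fin.ext (btCode_inj i.2 j.2 ?_), fun g => ?_⟩
    · rw [← (bt_facts i.2).2.2.1, ← (bt_facts j.2).2.2.1]
      exact code_of_eq (bt_facts i.2).1 (bt_facts j.2).1 (congrArg Subtype.val e)
    · obtain ⟨i, hi, e⟩ := (hmem _).1 g.2
      exact ⟨⟨i, hi⟩, Subtype.ext e.symm⟩
  rw [← Nat.card_eq_of_bijective f hf, Nat.card_fin]

theorem class_spec {i : ℕ} (hi : i < 2048) (h0 : evalW (bw i) ≠ 1) :
    ∃ r, (∃ t, (r, t) ∈ repWits) ∧ ∃ c : TG, evalW (bw i) = c * evalW (bw r) * c⁻¹ := by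
  have h := allUpTo_spec class_ok i hi
  simp only [Bool.and_eq_true, Bool.or_eq_true, List.any_eq_true] at h
  obtain ⟨⟨⟨h1, h2⟩, h3⟩, h4⟩ := h
  have h3 : up 11 rootTab i < 2048 := up_lt 11 _ _
  rcases h1 with h1 | ⟨⟨r, t⟩, ht, hr⟩
  · refine absurd ?_ h0
    rw [Nat.eq_of_beq_eq_true h1]
    have : bw 0 = [] := by decide +kernel
    rw [this, evalW_nil]
  · obtain rfl : r = up 11 rootTab i := Nat.eq_of_beq_eq_true hr
    refine ⟨_, ⟨t, ht⟩, evalW (conjWord i), eq_mul_inv_iff_mul_eq.2 ?_⟩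
    rw [← evalW_append, ← evalW_append]
    exact eq_of_code (wordOK_append.2 ⟨(bt_facts hi).1, h2⟩) (wordOK_append.2 ⟨h2, (bt_facts h3).1⟩)
      (Nat.eq_of_beq_eq_true h4)

theorem rep_spec {r : ℕ} {t : Wit} (h : (r, t) ∈ repWits) : r < 2048 ∧ IsSquare' (evalW (bw r)) ∧
    (evalW (bw r) * evalW (bw r) = 1 → countLines (bw r) % 13 ≠ 0) := by
  have h' := List.all_eq_true.1 reps_ok _ h
  simp only [repOK, Bool.and_eq_true, Bool.or_eq_true, Bool.not_eq_true'] at h'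
  obtain ⟨⟨h1, h2⟩, h3⟩ := h'
  have hr : r < 2048 := by simpa using h1
  refine ⟨hr, witOK_spec (bt_facts hr).1 h2, fun e => ?_⟩
  rw [← evalW_append, evalW_one_iff (wordOK_append.2 ⟨(bt_facts hr).1, (bt_facts hr).1⟩)] at e
  rcases h3 with h3 | h3
  · rw [e] at h3; exact absurd h3 Bool.noConfusion
  · intro e'
    rw [e'] at h3
    simp at h3

theorem fixNum_range {n : ℕ} (P : Fin n → Prop) (f : ℕ → Bool) (h : ∀ x : Fin n, P x ↔ f x = true) :
    Nat.card {x : Fin n // P x} = countUpTo f n := by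
  classical
  rw [countUpTo_eq, Nat.card_eq_fintype_card, Fintype.card_subtype,
    ← Finset.card_map (Fin.valEmbedding)]
  congr 1
  ext i
  simp only [Finset.mem_map, Finset.mem_filter, Finset.mem_univ, true_and, Finset.mem_range, Fin.valEmbedding_apply, h]
  exact ⟨fun ⟨x, hx, e⟩ => e ▸ ⟨x.2, hx⟩, fun ⟨hi, hf⟩ => ⟨⟨i, hi⟩, hf, rfl⟩⟩

theorem fixNum_lines {w : List ℕ} (hw : wordOK w = true) : fixNum Ln (evalW w) = countLines w :=
  fixNum_range _ (fun i => mapsLine (ev w) i i) fun l => smul_line hw l l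

theorem fixNum_pts {w : List ℕ} (hw : wordOK w = true) : fixNum Pt (evalW w) = countPts w :=
  fixNum_range _ (fun i => Nat.beq (ev w i) i) fun c => by rw [Fin.ext_iff, smul_val hw, Nat.beq_eq]

theorem exists_group {L : List (List ℕ)} (h : groupOK L = true) : ∃ H : Subgroup TG, Nat.card H = L.length ∧
    ∀ g ∈ H, ∃ w ∈ L, wordOK w = true ∧ g = evalW w := by
  haveI := finite_TG
  simp only [groupOK, Bool.and_eq_true, List.all_eq_true, List.contains_iff_mem, List.mem_map, decide_eq_true_eq] at h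
  obtain ⟨⟨⟨hok, ⟨e, he, hee⟩⟩, hnd⟩, hmul⟩ := h
  obtain ⟨H, hH⟩ := subgroup_of_closed {g : TG | ∃ w ∈ L, g = evalW w}
    ⟨e, he, by rw [← evalW_nil]; exact (eq_of_code (hok e he) rfl hee).symm⟩
    (by
      rintro a ⟨u, hu, rfl⟩ b ⟨v, hv, rfl⟩
      obtain ⟨w, hw, hwe⟩ := hmul u hu v hv
      exact ⟨w, hw, by rw [← evalW_append]; exact (eq_of_code (hok w hw) (wordOK_append.2 ⟨hok u hu, hok v hv⟩) hwe).symm⟩)
  have hmem : ∀ g : TG, g ∈ H ↔ ∃ w ∈ L, g = evalW w := fun g => by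
    rw [← SetLike.mem_coe, hH]; rfl
  refine ⟨H, ?_, fun g hg => by
    obtain ⟨w, hw, e⟩ := (hmem g).1 hg
    exact ⟨w, hw, hok w hw, e⟩⟩
  let f : Fin L.length → H := fun i => ⟨evalW L[i.1], (hmem _).2 ⟨_, List.getElem_mem i.2, rfl⟩⟩
  have hf : Function.Bijective f := by
    refine ⟨fun i j e => Fin.ext ?_, fun g => ?_⟩
    · have e' := code_of_eq (hok _ (List.getElem_mem i.2)) (hok _ (List.getElem_mem j.2)) (congrArg Subtype.val e)
      refine (hnd.getElem_inj_iff (hi := by rw [List.length_map]; exact i.2) (hj := by rw [List.length_map]; exact j.2)).1 ?_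
      rw [List.getElem_map, List.getElem_map]
      exact e'
    · obtain ⟨w, hw, e⟩ := (hmem _).1 g.2
      obtain ⟨i, hi, rfl⟩ := List.getElem_of_mem hw
      exact ⟨⟨i, hi⟩, Subtype.ext e.symm⟩
  rw [← Nat.card_eq_of_bijective f hf, Nat.card_fin]

theorem comm_spec {c : List ℕ} {L : List (ℕ × List Wit)} {q : ℕ} (hc : wordOK c = true) (h : commOK c L q = true)
    {i : ℕ} (hi : i < 2048) (hcomm : evalW (bw i) * evalW c = evalW c * evalW (bw i)) {j : ℕ} (hj : 0 < j)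
    (hjq : j < q) : IsSquare' (evalW (bw i) * evalW c ^ j) := by
  simp only [commOK, Bool.and_eq_true, List.all_eq_true] at h
  obtain ⟨h1, h2⟩ := h
  have hb := (bt_facts hi).1
  have h1' := allUpTo_spec h1 i hi
  simp only [Bool.or_eq_true, Bool.not_eq_true', List.any_eq_true] at h1'
  rcases h1' with h1' | ⟨e, he, hei⟩
  · rw [← evalW_append, ← evalW_append] at hcomm
    rw [code_of_eq (wordOK_append.2 ⟨hb, hc⟩) (wordOK_append.2 ⟨hc, hb⟩) hcomm] at h1'
    simp at h1'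
  · obtain ⟨-, h3⟩ := h2 e he
    have h4 := allUpTo_spec h3 (j - 1) (by omega)
    rw [Nat.eq_of_beq_eq_true hei, Nat.sub_add_cancel hj] at h4
    have := witOK_spec (wordOK_append.2 ⟨hb, wordOK_wordPow hc j⟩) h4
    rwa [evalW_append, evalW_wordPow] at this

/-- The covering property of the Tits group. -/
theorem covers : ∃ x : Cfsg.Lie.TitsGroup, Odd (orderOf x) ∧
    ∀ g, g ≠ 1 → ∃ u v, g = (u * x * u⁻¹) * (v * x * v⁻¹) := by
  haveI := finite_TG
  obtain ⟨-, haw, hbw, -, hx1, hx13, ha3, haL, hap, hb5, hbp, hbL⟩ := elem_facts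
  refine ⟨xElt, ?_, ?_⟩
  · haveI : Fact (Nat.Prime 13) := ⟨by norm_num⟩
    rw [orderOf_eq_prime hx13 hx1]
    exact ⟨6, rfl⟩
  obtain ⟨B, hBcard, hB⟩ := exists_bt
  have hs := sylow_ok
  simp only [sylowChecks, Bool.and_eq_true, List.all_eq_true] at hs
  obtain ⟨⟨⟨⟨⟨⟨⟨⟨⟨⟨s3, s5⟩, s13⟩, l3⟩, l5⟩, l13⟩, x3⟩, x5⟩, -⟩, h130⟩, w13⟩ := hs
  obtain ⟨P3, c3, m3⟩ := exists_group s3
  obtain ⟨P5, c5, m5⟩ := exists_group s5
  obtain ⟨P13, c13, m13⟩ := exists_group s13
  have l13' := Nat.eq_of_beq_eq_true l13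
  refine good_of_data IsSquare' isSquare_conj B P3 P5 P13 pt0 ln0 (evalW aWord) (evalW bWord) card_TG hBcard
    (c3.trans (Nat.eq_of_beq_eq_true l3)) (c5.trans (Nat.eq_of_beq_eq_true l5)) (c13.trans l13')
    card_stabilizer_pt0 card_stabilizer_ln0 trans_pt trans_ln ?_ ?_ ha3 haL hap hb5 hbp hbL ?_ ?_ ?_ ?_ ?_ ?_ ?_ ?_ ?_
  · intro y hy
    obtain ⟨i, hi, rfl⟩ := (hB y).1 hy
    exact (bt_facts hi).2.2.2.1
  · intro y hy
    obtain ⟨i, hi, rfl⟩ := (hB y).1 hy
    exact (bt_facts hi).2.2.2.2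
  · intro g hg
    obtain ⟨w, hw, hwok, rfl⟩ := m3 g hg
    have := x3 w hw
    rw [← evalW_one_iff (by simp [wordOK_append, hwok]), evalW_append, evalW_append] at this
    rw [pow_succ, pow_two]
    exact this
  · intro g hg
    obtain ⟨w, hw, hwok, rfl⟩ := m5 g hg
    have := x5 w hw
    rwa [← evalW_one_iff (wordOK_wordPow hwok 5), evalW_wordPow] at this
  · intro g hg h1
    obtain ⟨w, hw, hwok, rfl⟩ := m3 g hg
    have h := List.all_eq_true.1 count3_ok w hw
    simp only [count3OK, Bool.or_eq_true, Bool.and_eq_true, Bool.not_eq_true'] at h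
    rcases h with h | ⟨⟨h, h'⟩, h''⟩
    · exact absurd ((evalW_one_iff hwok).2 h) h1
    · rw [fixNum_lines hwok]
      refine ⟨by simpa using h, fun e => ?_, fun e => ?_⟩
      · rw [Nat.mod_eq_zero_of_dvd e] at h'; simp at h'
      · rw [Nat.mod_eq_zero_of_dvd e] at h''; simp at h''
  · intro g hg h1
    obtain ⟨w, hw, hwok, rfl⟩ := m5 g hg
    have h := List.all_eq_true.1 count5_ok w hw
    simp only [count5OK, Bool.or_eq_true, Bool.and_eq_true, Bool.not_eq_true'] at h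
    rcases h with h | ⟨h, h'⟩
    · exact absurd ((evalW_one_iff hwok).2 h) h1
    · rw [fixNum_pts hwok]
      refine ⟨by simpa using h, fun e => ?_⟩
      rw [Nat.mod_eq_zero_of_dvd e] at h'; simp at h'
  · intro e he he1 he2
    obtain ⟨i, hi, rfl⟩ := (hB e).1 he
    obtain ⟨r, ⟨t, ht⟩, c, hc⟩ := class_spec hi he1
    obtain ⟨hr, -, h⟩ := rep_spec ht
    rw [hc, fixNum_conj, fixNum_lines (bt_facts hr).1]
    rw [hc] at he2
    have h2 : evalW (bw r) * evalW (bw r) = 1 := by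
      have := congrArg (fun z => c⁻¹ * z * c) he2
      simpa [mul_assoc] using this
    intro hd
    exact h h2 (Nat.mod_eq_zero_of_dvd hd)
  · intro g hg hg1
    obtain ⟨i, hi, rfl⟩ := (hB g).1 hg
    obtain ⟨r, ⟨t, ht⟩, c, hc⟩ := class_spec hi hg1
    rw [hc]
    exact isSquare_conj _ c (rep_spec ht).2.1
  · intro g hg hg1
    obtain ⟨w, hw, hwok, rfl⟩ := m13 g hg
    obtain ⟨j, hj, e⟩ := List.getElem_of_mem hw
    have e' : syl13Words.getD j [] = w := (List.getD_eq_getElem syl13Words [] hj).trans e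
    rcases Nat.eq_zero_or_pos j with h0 | h0
    · rw [h0] at e'
      rw [e'] at h130
      exact absurd ((evalW_one_iff hwok).2 h130) hg1
    · have h := allUpTo_spec w13 (j - 1) (by omega)
      rw [Nat.sub_add_cancel h0, e'] at h
      exact witOK_spec hwok h
  · intro r hr hcomm j hj hjq
    obtain ⟨i, hi, rfl⟩ := (hB r).1 hr
    exact comm_spec haw commA_ok hi hcomm hj hjq
  · intro r hr hcomm j hj hjq
    obtain ⟨i, hi, rfl⟩ := (hB r).1 hr
    exact comm_spec hbw commB_ok hi hcomm hj hjq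

end CfsgLib.Lie.TitsSquare
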