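import Cfsg.Agent.Lib.Lie.TitsSquare.Perm0
import Cfsg.Agent.Lib.Lie.TitsSquare.Perm1
import Cfsg.Agent.Lib.Lie.TitsSquare.Perm2
import Cfsg.Agent.Lib.Lie.TitsSquare.Perm3

/-!
The table of permutations.
-/

set_option autoImplicit false
set_option maxRecDepth 100000

namespace CfsgLib.Lie.TitsSquare

/-- The number of elements. -/
def permLen : ℕ := 148

/-- The points under element `k`. -/
noncomputable def perm (k : ℕ) : ℕ :=
  (cond (Nat.blt k 74) (cond (Nat.blt k 37) (cond (Nat.blt k 18) (cond (Nat.blt k 9) (cond (Nat.blt k 4) (cond (Nat.blt k 2) (cond (Nat.blt k 1) perm0 perm1) (cond (Nat.blt k 3) perm2 perm3)) (cond (Nat.blt k 6) (cond (Nat.blt k 5) perm4 perm5) (cond (Nat.blt k 7) perm6 (cond (Nat.blt k 8) perm7 perm8)))) (cond (Nat.blt k 13) (cond (Nat.blt k 11) (cond (Nat.blt k 10) perm9 perm10) (cond (Nat.blt k 12) perm11 perm12)) (cond (Nat.blt k 15) (cond (Nat.blt k 14) perm13 perm14) (cond (Nat.blt k 16) perm15 (cond (Nat.blt k 17) perm16 perm17))))) (cond (Nat.blt k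 27) (cond (Nat.blt k 22) (cond (Nat.blt k 20) (cond (Nat.blt k 19) perm18 perm19) (cond (Nat.blt k 21) perm20 perm21)) (cond (Nat.blt k 24) (cond (Nat.blt k 23) perm22 perm23) (cond (Nat.blt k 25) perm24 (cond (Nat.blt k 26) perm25 perm26)))) (cond (Nat.blt k 32) (cond (Nat.blt k 29) (cond (Nat.blt k 28) perm27 perm28) (cond (Nat.blt k 30) perm29 (cond (Nat.blt k 31) perm30 perm31))) (cond (Nat.blt k 34) (cond (Nat.blt k 33) perm32 perm33) (cond (Nat.blt k 35) perm34 (cond (Nat.blt k 36) perm35 perm36)))))) (cond (Nat.blt k 55) (cond (Nat.blt k 46) (cond (Nat.blt k 41) (cond (Nat.blt k 39) (cond (Nat.blt k 38) perm37 perm38) (cond (Nat.blt k 40) perm39 perm40)) (cond (Nat.blt k 43) (cond (Nat.blt k 42) perm41 perm42) (cond (Nat.blt k 44) perm43 (cond (Nat.blt k 45) perm44 perm45)))) (cond (Nat.blt k 50) (cond (Nat.blt k 48) (cond (Nat.blt k 47) perm46 perm47) (cond (Nat.blt k 49) perm48 perm49)) (cond (Nat.blt k 52) (cond (Nat.blt k 51) perm50 perm51) (cond (Nat.blt k 53) perm52 (cond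 (Nat.blt k 54) perm53 perm54))))) (cond (Nat.blt k 64) (cond (Nat.blt k 59) (cond (Nat.blt k 57) (cond (Nat.blt k 56) perm55 perm56) (cond (Nat.blt k 58) perm57 perm58)) (cond (Nat.blt k 61) (cond (Nat.blt k 60) perm59 perm60) (cond (Nat.blt k 62) perm61 (cond (Nat.blt k 63) perm62 perm63)))) (cond (Nat.blt k 69) (cond (Nat.blt k 66) (cond (Nat.blt k 65) perm64 perm65) (cond (Nat.blt k 67) perm66 (cond (Nat.blt k 68) perm67 perm68))) (cond (Nat.blt k 71) (cond (Nat.blt k 70) perm69 perm70) (cond (Nat.blt k 72) perm71 (cond (Nat.blt k 73) perm72 perm73))))))) (cond (Nat.blt k 111) (cond (Nat.blt k 92) (cond (Nat.blt k 83) (cond (Nat.blt k 78) (cond (Nat.blt k 76) (cond (Nat.blt k 75) perm74 perm75) (cond (Nat.blt k 77) perm76 perm77)) (cond (Nat.blt k 80) (cond (Nat.blt k 79) perm78 perm79) (cond (Nat.blt k 81) perm80 (cond (Nat.blt k 82) perm81 perm82)))) (cond (Nat.blt k 87) (cond (Nat.blt k 85) (cond (Nat.blt k 84) perm83 perm84) (cond (Nat.blt k 86) perm85 perm86)) (cond (Nat.blt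 k 89) (cond (Nat.blt k 88) perm87 perm88) (cond (Nat.blt k 90) perm89 (cond (Nat.blt k 91) perm90 perm91))))) (cond (Nat.blt k 101) (cond (Nat.blt k 96) (cond (Nat.blt k 94) (cond (Nat.blt k 93) perm92 perm93) (cond (Nat.blt k 95) perm94 perm95)) (cond (Nat.blt k 98) (cond (Nat.blt k 97) perm96 perm97) (cond (Nat.blt k 99) perm98 (cond (Nat.blt k 100) perm99 perm100)))) (cond (Nat.blt k 106) (cond (Nat.blt k 103) (cond (Nat.blt k 102) perm101 perm102) (cond (Nat.blt k 104) perm103 (cond (Nat.blt k 105) perm104 perm105))) (cond (Nat.blt k 108) (cond (Nat.blt k 107) perm106 perm107) (cond (Nat.blt k 109) perm108 (cond (Nat.blt k 110) perm109 perm110)))))) (cond (Nat.blt k 129) (cond (Nat.blt k 120) (cond (Nat.blt k 115) (cond (Nat.blt k 113) (cond (Nat.blt k 112) perm111 perm112) (cond (Nat.blt k 114) perm113 perm114)) (cond (Nat.blt k 117) (cond (Nat.blt k 116) perm115 perm116) (cond (Nat.blt k 118) perm117 (cond (Nat.blt k 119) perm118 perm119)))) (cond (Nat.blt k 124) (cond (Nat.blt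 k 122) (cond (Nat.blt k 121) perm120 perm121) (cond (Nat.blt k 123) perm122 perm123)) (cond (Nat.blt k 126) (cond (Nat.blt k 125) perm124 perm125) (cond (Nat.blt k 127) perm126 (cond (Nat.blt k 128) perm127 perm128))))) (cond (Nat.blt k 138) (cond (Nat.blt k 133) (cond (Nat.blt k 131) (cond (Nat.blt k 130) perm129 perm130) (cond (Nat.blt k 132) perm131 perm132)) (cond (Nat.blt k 135) (cond (Nat.blt k 134) perm133 perm134) (cond (Nat.blt k 136) perm135 (cond (Nat.blt k 137) perm136 perm137)))) (cond (Nat.blt k 143) (cond (Nat.blt k 140) (cond (Nat.blt k 139) perm138 perm139) (cond (Nat.blt k 141) perm140 (cond (Nat.blt k 142) perm141 perm142))) (cond (Nat.blt k 145) (cond (Nat.blt k 144) perm143 perm144) (cond (Nat.blt k 146) perm145 (cond (Nat.blt k 147) perm146 perm147))))))))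

/-- The left factors. -/
noncomputable def opsA : ℕ := 0x9291668f8e8d5c8b8a895c87867084838266807f437d7c7b42797177437571737252366e1d6c296a386830032a6425621a601e5e2a05375a285834562d54331b05502f4e1a4c012d03482c46284436352d402f3e2a3c313a201a371831341d002d28032e1d0e232429202526251a23001b1e19011d10030c0d120f160f14030a1108030607050301030303010300040102000000

/-- The right factors. -/
noncomputable def opsB : ℕ := 0x4266424252524242537152535c70534b4253674b52425342704253435267534b5d706f376d1c6b2869390031652b6324611b5f1f012b5b3659295735552c1a3251014f2e4d1b2c054900472d45293437412c3f2e3d2b3b301b2119363530031c292c2f000f1c2522212827241b2403221f1a0518111c0d00130c170e150e0b000910070001060500000005000300010100000000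


end CfsgLib.Lie.TitsSquare
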